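import Groth.Agent.AzSplitLib.Local
import Groth.Agent.AzumayaAlg.Basic
import Groth.Agent.AzumayaAlg.Fibre

/-!
# Splitting Azumaya algebras after inverting one element
-/

set_option autoImplicit false
set_option backward.isDefEq.respectTransparency false

universe u

open scoped TensorProduct Polynomial

namespace Groth.Agent.AzSplitLib

/-- The dimension of a central simple algebra is a square. -/
theorem exists_finrank_sq (k : Type u) [Field k] (C : Type u) [Ring C] [Algebra k C] [Algebra.IsCentral k C]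
    [IsSimpleRing C] [FiniteDimensional k C] : ∃ r, Module.finrank k C = r ^ 2 := by
  haveI := CSADescent.isCentral_baseChange (k := k) (L := AlgebraicClosure k) (A := C)
  haveI := CSADescent.isSimpleRing_baseChange (k := k) (L := AlgebraicClosure k) (A := C)
  obtain ⟨m, ⟨e⟩⟩ := CSADescent.exists_algEquiv_matrix (L := AlgebraicClosure k) (AlgebraicClosure k ⊗[k] C)
  have h := e.toLinearEquiv.finrank_eq
  rw [Module.finrank_baseChange, Module.finrank_matrix, Fintype.card_fin, Module.finrank_self, mul_one] at h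
  exact ⟨m, h.trans (sq m).symm⟩

variable {R : Type u} [CommRing R] {κ : Type u} [Field κ] [Algebra R κ] {A : Type u} [Ring A] [Algebra R A]
  [IsAzumaya R A]

/-- The fibre is a central simple algebra. -/
theorem fibre_csa : Algebra.IsCentral κ (κ ⊗[R] A) ∧ IsSimpleRing (κ ⊗[R] A) := by
  haveI := AzumayaAlg.isAzumaya_baseChange (R := R) κ A
  exact AzumayaAlg.isCentral_isSimple_of_isAzumaya _

variable (hfrac : ∀ z : κ, ∃ a t : R, algebraMap R κ t ≠ 0 ∧ algebraMap R κ t * z = algebraMap R κ a)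
include hfrac

/-- A regular element of the fibre may be taken to be the image of a global element. -/
theorem exists_regular_lift {r : ℕ} (hr : Module.finrank κ (κ ⊗[R] A) = r ^ 2) :
    ∃ ξ : A, Algebra.IsSeparable κ (Algebra.adjoin κ ({(1 : κ) ⊗ₜ[R] ξ} : Set (κ ⊗[R] A))) ∧
      Module.finrank κ (Algebra.adjoin κ ({(1 : κ) ⊗ₜ[R] ξ} : Set (κ ⊗[R] A))) = r := by
  haveI := (fibre_csa (R := R) (κ := κ) (A := A)).1
  haveI := (fibre_csa (R := R) (κ := κ) (A := A)).2
  obtain ⟨x, hsep, hrk⟩ := exists_regular (k := κ) (C := κ ⊗[R] A) hr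
  obtain ⟨t, ht, ξ, hξ⟩ := exists_scaled hfrac x
  have he : Algebra.adjoin κ ({(1 : κ) ⊗ₜ[R] ξ} : Set (κ ⊗[R] A)) = Algebra.adjoin κ {x} := by
    refine le_antisymm (Algebra.adjoin_le ?_) (Algebra.adjoin_le ?_) <;> rw [Set.singleton_subset_iff, SetLike.mem_coe]
    · rw [← hξ]
      exact Subalgebra.smul_mem _ (Algebra.self_mem_adjoin_singleton κ x) _
    · rw [show x = (algebraMap R κ t)⁻¹ • ((1 : κ) ⊗ₜ[R] ξ) by rw [← hξ, inv_smul_smul₀ ht]]
      exact Subalgebra.smul_mem _ (Algebra.self_mem_adjoin_singleton κ _) _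
  exact ⟨ξ, he.symm ▸ hsep, he.symm ▸ hrk⟩

/-- Splitting data away from one element. -/
theorem exists_data {r : ℕ} (hr : Module.finrank κ (κ ⊗[R] A) = r ^ 2) (ξ : A)
    (hsep : Algebra.IsSeparable κ (Algebra.adjoin κ ({(1 : κ) ⊗ₜ[R] ξ} : Set (κ ⊗[R] A))))
    (hrk : Module.finrank κ (Algebra.adjoin κ ({(1 : κ) ⊗ₜ[R] ξ} : Set (κ ⊗[R] A))) = r) :
    ∃ d : R, algebraMap R κ d ≠ 0 ∧ ∀ (S : Type u) [CommRing S] [Algebra R S], IsUnit (algebraMap R S d) →
      ∃ (hr0 : 0 < r) (c : Fin r → S) (τ : S ⊗[R] A →ₗ[S] (Fin r → S)) (b : Fin r → S ⊗[R] A),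
        ((1 : S) ⊗ₜ[R] ξ) ^ r = ∑ j, c j • ((1 : S) ⊗ₜ[R] ξ) ^ (j : ℕ) ∧
        (∀ j : Fin r, τ (((1 : S) ⊗ₜ[R] ξ) ^ (j : ℕ)) = Pi.single j 1) ∧
        (∃ v : Fin r → S, τ (Polynomial.aeval ((1 : S) ⊗ₜ[R] ξ)
          (Polynomial.derivative ((Polynomial.X : S[X]) ^ r - ∑ j : Fin r, Polynomial.C (c j) * Polynomial.X ^ (j : ℕ))) *
          ∑ j, v j • ((1 : S) ⊗ₜ[R] ξ) ^ (j : ℕ)) = Pi.single ⟨0, hr0⟩ 1) ∧
        Function.Bijective fun v : Fin r → Fin r → S => ∑ i, ∑ j, v i j • (b i * ((1 : S) ⊗ₜ[R] ξ) ^ (j : ℕ)) := by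
  classical
  haveI := (fibre_csa (R := R) (κ := κ) (A := A)).1
  haveI := (fibre_csa (R := R) (κ := κ) (A := A)).2
  set C := κ ⊗[R] A
  set x : C := (1 : κ) ⊗ₜ[R] ξ with hx
  obtain ⟨hmsep, hmdeg, hli, hcent⟩ := regular_facts (k := κ) (C := C) hr x hsep hrk
  have hr0 : 0 < r := pos_of_finrank κ C r hr
  set m := minpoly κ x
  have hint : IsIntegral κ x := Algebra.IsIntegral.isIntegral x
  have hpow : ∀ n, (1 : κ) ⊗ₜ[R] (ξ ^ n) = x ^ n := fun n => by rw [hx, Algebra.TensorProduct.tmul_pow, one_pow]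
  -- powers of `ξ`
  let Pw : (Fin r → R) →ₗ[R] A := Fintype.linearCombination R fun j : Fin r => ξ ^ (j : ℕ)
  have hPwB : ∀ j, LinearMap.baseChange κ Pw ((1 : κ) ⊗ₜ[R] Pi.single j 1) = x ^ (j : ℕ) := fun j => by
    rw [LinearMap.baseChange_tmul, Fintype.linearCombination_apply_single, one_smul, hpow]
  let Bκ := Algebra.TensorProduct.basis κ (Pi.basisFun R (Fin r))
  have hBκ : ∀ j, Bκ j = (1 : κ) ⊗ₜ[R] Pi.single j 1 := fun j => by simp [Bκ]
  have hPw : Function.Injective (LinearMap.baseChange κ Pw) := by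
    rw [← LinearMap.ker_eq_bot, Bκ.ext (f₁ := LinearMap.baseChange κ Pw) (f₂ := Bκ.constr κ fun j : Fin r => x ^ (j : ℕ))
      fun j => by rw [Module.Basis.constr_basis, hBκ, hPwB]]
    exact Bκ.injective_constr_of_linearIndependent hli |> LinearMap.ker_eq_bot.2
  have hspan : ∀ z ∈ Submodule.span κ (Set.range fun j : Fin r => x ^ (j : ℕ)),
      ∃ w, LinearMap.baseChange κ Pw w = z := fun z hz =>
    (Submodule.span_le (p := LinearMap.range (LinearMap.baseChange κ Pw))).2
      (Set.range_subset_iff.2 fun j => ⟨_, hPwB j⟩) hz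
  obtain ⟨d₄, hd₄, τ, hτ⟩ := exists_left_inverse_away hfrac Pw hPw
  have hτ' : ∀ j, τ (ξ ^ (j : Fin r).1) = d₄ • Pi.single j 1 := fun j => by
    have := LinearMap.congr_fun hτ (Pi.single j 1)
    simpa [Pw, Fintype.linearCombination_apply_single] using this
  -- elements commuting with `ξ` on the fibre
  let ad : A →ₗ[R] A := LinearMap.mulRight R ξ - LinearMap.mulLeft R ξ
  have had : ∀ z : C, LinearMap.baseChange κ ad z = z * x - x * z := fun z => by
    induction z using TensorProduct.induction_on with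
    | zero => simp
    | tmul a y => simp [ad, x, C, TensorProduct.tmul_sub, Algebra.TensorProduct.tmul_mul_tmul]
    | add p q hp hq => rw [map_add, hp, hq, add_mul, mul_add]; abel
  have hsolve : ∀ z : C, z * x = x * z → LinearMap.baseChange κ τ z = 0 → z = 0 := fun z hc hz => by
    obtain ⟨w, rfl⟩ := hspan z (hcent z hc)
    rw [← LinearMap.comp_apply, ← LinearMap.baseChange_comp, hτ, LinearMap.baseChange_smul, LinearMap.baseChange_id,
      LinearMap.smul_apply, LinearMap.id_apply, ← algebraMap_smul κ d₄] at hz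
    rw [(smul_eq_zero.1 hz).resolve_left hd₄, map_zero]
  have hG : Function.Injective (LinearMap.baseChange κ (τ.prod ad)) := by
    refine (injective_iff_map_eq_zero _).2 fun z hz => hsolve z ?_ ?_
    · have := congrArg (LinearMap.baseChange κ (LinearMap.snd R (Fin r → R) A)) hz
      rw [← LinearMap.comp_apply, ← LinearMap.baseChange_comp, LinearMap.snd_prod, map_zero, had, sub_eq_zero] at this
      exact this
    · have := congrArg (LinearMap.baseChange κ (LinearMap.fst R (Fin r → R) A)) hz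
      rwa [← LinearMap.comp_apply, ← LinearMap.baseChange_comp, LinearMap.fst_prod, map_zero] at this
  obtain ⟨d₃, hd₃, H, hH⟩ := exists_left_inverse_away hfrac (τ.prod ad) hG
  set c' := τ (ξ ^ r)
  set Q : R[X] := Polynomial.C d₄ * Polynomial.X ^ r - ∑ j : Fin r, Polynomial.C (c' j) * Polynomial.X ^ (j : ℕ) with hQ
  have hQξ : Polynomial.aeval ξ Q = d₄ • ξ ^ r - ∑ j, c' j • ξ ^ (j : ℕ) := by
    simp [hQ, map_sum, ← Algebra.smul_def]
  have hcommQ : Commute (Polynomial.aeval ξ Q) ξ := by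
    conv => arg 2; rw [← Polynomial.aeval_X (R := R) ξ]
    exact (Commute.all Q Polynomial.X).map (Polynomial.aeval ξ)
  have hd₃Q : d₃ • Polynomial.aeval ξ Q = 0 := by
    have h1 : τ (Polynomial.aeval ξ Q) = 0 := by
      rw [hQξ, map_sub, map_smul, map_sum]
      simp only [map_smul, hτ']
      rw [sub_eq_zero]
      funext l
      simp [Pi.single_apply, c', mul_comm]
    have h2 : ad (Polynomial.aeval ξ Q) = 0 := sub_eq_zero.2 hcommQ
    have := LinearMap.congr_fun hH (Polynomial.aeval ξ Q)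
    rw [LinearMap.comp_apply, LinearMap.prod_apply, Function.prod_apply, h1, h2] at this
    rw [show ((0 : Fin r → R), (0 : A)) = 0 from rfl, map_zero] at this
    exact this.symm
  have hQmap : Q.map (algebraMap R κ) = Polynomial.C (algebraMap R κ d₄) * m := by
    rw [← sub_eq_zero]
    refine Polynomial.eq_zero_of_dvd_of_degree_lt (p := m) (minpoly.dvd κ x ?_) ?_
    · rw [map_sub, map_mul, minpoly.aeval, mul_zero, sub_zero, Polynomial.aeval_map_algebraMap,
        show x = (Algebra.TensorProduct.includeRight : A →ₐ[R] C) ξ from rfl, Polynomial.aeval_algHom_apply]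
      have := congrArg (fun a : A => (1 : κ) ⊗ₜ[R] a) hd₃Q
      simp only [TensorProduct.tmul_smul, TensorProduct.tmul_zero] at this
      rw [← algebraMap_smul κ d₃] at this
      exact (smul_eq_zero.1 this).resolve_left hd₃
    · have hm : m.Monic := minpoly.monic hint
      have hmd : m.degree = (r : WithBot ℕ) := by rw [Polynomial.degree_eq_natDegree hm.ne_zero, hmdeg]
      rw [hmd, Polynomial.degree_lt_iff_coeff_zero]
      intro n hn
      rw [Polynomial.coeff_sub, Polynomial.coeff_map, Polynomial.coeff_C_mul]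
      have hs : (∑ j : Fin r, Polynomial.C (c' j) * Polynomial.X ^ (j : ℕ)).coeff n = 0 :=
        (Polynomial.degree_lt_iff_coeff_zero _ r).1 (Polynomial.degree_sum_fin_lt c') n hn
      rw [hQ, Polynomial.coeff_sub, hs, sub_zero, Polynomial.coeff_C_mul, Polynomial.coeff_X_pow]
      rcases hn.eq_or_lt with rfl | hlt
      · rw [← hmdeg, hm.coeff_natDegree, if_pos rfl, mul_one, mul_one, sub_self]
      · rw [Polynomial.coeff_eq_zero_of_natDegree_lt (hmdeg ▸ hlt), if_neg hlt.ne']
        simp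
  -- the derivative is invertible
  set Y := Polynomial.aeval ξ (Polynomial.derivative Q) with hY
  have hY' : (1 : κ) ⊗ₜ[R] Y = algebraMap R κ d₄ • Polynomial.aeval x (Polynomial.derivative m) := by
    rw [hY, show (1 : κ) ⊗ₜ[R] Polynomial.aeval ξ (Polynomial.derivative Q) =
      (Algebra.TensorProduct.includeRight : A →ₐ[R] C) (Polynomial.aeval ξ (Polynomial.derivative Q)) from rfl,
      ← Polynomial.aeval_algHom_apply, ← Polynomial.aeval_map_algebraMap κ, ← Polynomial.derivative_map, hQmap,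
      Polynomial.derivative_C_mul, map_mul, Polynomial.aeval_C, ← Algebra.smul_def]
    rfl
  have hinv : ∀ z : C, Polynomial.aeval x (Polynomial.derivative m) * z = 0 → z = 0 := fun z hz => by
    obtain ⟨p, q, hpq⟩ := hmsep
    have := congrArg (Polynomial.aeval x) hpq
    rw [map_add, map_mul, map_mul, minpoly.aeval, mul_zero, zero_add, map_one] at this
    rw [← one_mul z, ← this, mul_assoc, hz, mul_zero]
  let T : (Fin r → R) →ₗ[R] (Fin r → R) := τ ∘ₗ LinearMap.mulLeft R Y ∘ₗ Pw
  have hT : Function.Injective (LinearMap.baseChange κ T) := by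
    refine (injective_iff_map_eq_zero _).2 fun w hw => ?_
    simp only [T, LinearMap.baseChange_comp, LinearMap.comp_apply] at hw
    have hmul : ∀ z, LinearMap.baseChange κ (LinearMap.mulLeft R Y) z = ((1 : κ) ⊗ₜ[R] Y) * z := fun z => by
      induction z using TensorProduct.induction_on with
      | zero => simp
      | tmul a y => simp
      | add p q hp hq => rw [map_add, hp, hq, mul_add]
    rw [hmul, hY'] at hw
    have hcw : Commute (LinearMap.baseChange κ Pw w) x := by
      clear hw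
      induction w using TensorProduct.induction_on with
      | zero => simp
      | tmul a v =>
        rw [LinearMap.baseChange_tmul, Fintype.linearCombination_apply, TensorProduct.tmul_sum]
        refine Commute.sum_left _ _ _ fun j _ => ?_
        rw [show a ⊗ₜ[R] (v j • ξ ^ (j : ℕ)) = (a * algebraMap R κ (v j)) • x ^ (j : ℕ) by
          rw [← hpow, TensorProduct.smul_tmul', smul_eq_mul, mul_one, mul_comm, ← Algebra.smul_def,
            TensorProduct.smul_tmul]]
        exact ((Commute.refl x).pow_left _).smul_left _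
      | add p q hp hq => rw [map_add]; exact hp.add_left hq
    have hcm : Commute (algebraMap R κ d₄ • Polynomial.aeval x (Polynomial.derivative m)) x := by
      refine Commute.smul_left ?_ _
      conv => arg 2; rw [← Polynomial.aeval_X (R := κ) x]
      exact (Commute.all _ Polynomial.X).map (Polynomial.aeval x)
    have h0 := hsolve _ (hcm.mul_left hcw).eq hw
    rw [smul_mul_assoc, smul_eq_zero] at h0
    exact hPw (by rw [map_zero, hinv _ (h0.resolve_left hd₄)])
  obtain ⟨d₅, hd₅, Ψ₅, -, hΨ₅⟩ := exists_inverse_away hfrac T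
    ⟨hT, LinearMap.injective_iff_surjective.1 hT⟩
  -- a basis over the subalgebra
  let L := AdjoinRoot m
  let ι : L →ₐ[κ] C := Ideal.Quotient.liftₐ (Ideal.span {m}) (Polynomial.aeval x) fun a ha => by
    obtain ⟨q, rfl⟩ := Ideal.mem_span_singleton.1 ha
    rw [map_mul, minpoly.aeval, zero_mul]
  have hι : Function.Injective ι := by
    refine (injective_iff_map_eq_zero ι).2 fun z hz => ?_
    obtain ⟨q, rfl⟩ := AdjoinRoot.mk_surjective z
    rw [AdjoinRoot.mk_eq_zero]
    exact minpoly.dvd κ x hz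
  haveI : Module.Finite κ L := (AdjoinRoot.powerBasis (minpoly.ne_zero hint)).finite
  haveI : Algebra.IsSeparable κ L := by
    refine ⟨fun z => ?_⟩
    obtain ⟨q, rfl⟩ := AdjoinRoot.mk_surjective z
    have hmem : Polynomial.aeval x q ∈ Algebra.adjoin κ ({x} : Set C) := Polynomial.aeval_mem_adjoin_singleton κ x
    haveI := hsep
    have := Algebra.IsSeparable.isSeparable κ (⟨_, hmem⟩ : Algebra.adjoin κ ({x} : Set C))
    rw [IsSeparable, ← minpoly.algHom_eq (Algebra.adjoin κ ({x} : Set C)).val Subtype.val_injective] at this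
    rw [IsSeparable, ← minpoly.algHom_eq ι hι]
    exact this
  haveI := CSADescent.formallyUnramified_of_isSeparable (k := κ) (Z := L)
  haveI : IsReduced (AlgebraicClosure κ ⊗[κ] L) := Algebra.FormallyUnramified.isReduced_of_field (AlgebraicClosure κ) _
  have hL : Module.finrank κ L = r := by
    rw [(AdjoinRoot.powerBasis (minpoly.ne_zero hint)).finrank, AdjoinRoot.powerBasis_dim, hmdeg]
  letI : Module L C := Module.compHom C (ι.toOpposite fun a b => by
    show ι a * ι b = ι b * ι a
    rw [← map_mul, ← map_mul, mul_comm]).toRingHom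
  have hmod : ∀ (l : L) (y : C), l • y = y * ι l := fun l y => rfl
  obtain ⟨hfree, hrkL⟩ := free_right hr hL ι hι hmod
  haveI : IsScalarTower κ L C := ⟨fun a l y => by rw [hmod, hmod, map_smul, mul_smul_comm]⟩
  haveI : Module.Finite L C := Module.Finite.of_restrictScalars_finite κ L C
  haveI : Nontrivial L := Module.nontrivial_of_finrank_pos (R := κ) (hL ▸ hr0)
  let β := Module.finBasisOfFinrankEq L C hrkL
  choose t ht b hb using fun i => exists_scaled hfrac (β i)
  let Φ : (Fin r → Fin r → R) →ₗ[R] A :=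
    { toFun := fun v => ∑ i, ∑ j, v i j • (b i * ξ ^ (j : ℕ))
      map_add' := fun v w => by simp [add_smul, Finset.sum_add_distrib]
      map_smul' := fun a v => by simp [Finset.smul_sum, smul_smul] }
  have hΦ : Function.Bijective (LinearMap.baseChange κ Φ) := by
    have hs : Function.Surjective (LinearMap.baseChange κ Φ) := by
      intro z
      show z ∈ LinearMap.range (LinearMap.baseChange κ Φ)
      have hgen : ∀ i (j : Fin r), β i * x ^ (j : ℕ) ∈ LinearMap.range (LinearMap.baseChange κ Φ) := fun i j => by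
        refine ⟨(algebraMap R κ (t i))⁻¹ • ((1 : κ) ⊗ₜ[R] Pi.single i (Pi.single j 1)), ?_⟩
        rw [map_smul, LinearMap.baseChange_tmul, show Φ (Pi.single i (Pi.single j 1)) = b i * ξ ^ (j : ℕ) by
          simp [Φ, Pi.single_apply, ite_apply]]
        rw [← mul_one (1 : κ), ← Algebra.TensorProduct.tmul_mul_tmul, hpow, ← hb, smul_mul_assoc,
          inv_smul_smul₀ (ht i)]
      rw [← β.sum_repr z]
      refine Submodule.sum_mem _ fun i _ => ?_
      rw [hmod]
      have hmem : ι (β.repr z i) ∈ Submodule.span κ (Set.range fun j : Fin r => x ^ (j : ℕ)) := by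
        refine hcent _ ?_
        obtain ⟨q, hq⟩ := AdjoinRoot.mk_surjective (β.repr z i)
        rw [← hq, show x = ι (AdjoinRoot.mk m Polynomial.X) from (Polynomial.aeval_X x).symm]
        simp only [← map_mul]
        rw [mul_comm]
      have := Submodule.mem_map_of_mem (f := LinearMap.mulLeft κ (β i)) hmem
      rw [Submodule.map_span] at this
      refine Submodule.span_le.2 ?_ this
      rintro _ ⟨_, ⟨j, rfl⟩, rfl⟩
      exact hgen i j
    refine ⟨(LinearMap.injective_iff_surjective_of_finrank_eq_finrank ?_).2 hs, hs⟩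
    haveI : Nontrivial R := (algebraMap R κ).domain_nontrivial
    rw [Module.finrank_baseChange, hr, Module.finrank_pi_fintype, sq]
    simp
  obtain ⟨d₆, hd₆, Ψ₆, hΨΦ, hΦΨ⟩ := exists_inverse_away hfrac Φ hΦ
  refine ⟨d₃ * d₄ * d₅ * d₆, by simp only [map_mul]; exact mul_ne_zero (mul_ne_zero (mul_ne_zero hd₃ hd₄) hd₅) hd₆,
    fun S _ _ hu => ?_⟩
  simp only [map_mul, IsUnit.mul_iff] at hu
  obtain ⟨⟨⟨hu₃, hu₄⟩, hu₅⟩, hu₆⟩ := hu
  obtain ⟨e₄, he₄⟩ := hu₄.exists_left_inv
  obtain ⟨e₅, he₅⟩ := hu₅.exists_left_inv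
  set ζ := (1 : S) ⊗ₜ[R] ξ with hζ
  have hpowS : ∀ n, ζ ^ n = (1 : S) ⊗ₜ[R] (ξ ^ n) := fun n => by rw [hζ, Algebra.TensorProduct.tmul_pow, one_pow]
  let c : Fin r → S := fun j => e₄ * algebraMap R S (c' j)
  let τ₀ : S ⊗[R] A →ₗ[S] (Fin r → S) :=
    LinearMap.liftBaseChange S ((Algebra.linearMap R S).compLeft (Fin r) ∘ₗ τ)
  have hτ₀ : ∀ a, τ₀ ((1 : S) ⊗ₜ[R] a) = fun l => algebraMap R S (τ a l) := fun a => by
    rw [LinearMap.liftBaseChange_tmul, one_smul]
    rfl
  refine ⟨hr0, c, e₄ • τ₀, fun i => (1 : S) ⊗ₜ[R] b i, ?_, fun j => ?_,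
    ⟨fun j => algebraMap R S d₄ * algebraMap R S d₄ * e₅ * algebraMap R S (Ψ₅ (Pi.single ⟨0, hr0⟩ 1) j), ?_⟩, ?_⟩
  · have h := congrArg (fun a : A => (1 : S) ⊗ₜ[R] a) hd₃Q
    simp only [TensorProduct.tmul_smul, TensorProduct.tmul_zero] at h
    rw [← algebraMap_smul S d₃] at h
    obtain ⟨e₃, he₃⟩ := hu₃.exists_left_inv
    have h' := congrArg (fun z => e₃ • z) h
    simp only [smul_smul, he₃, one_smul, smul_zero, hQξ, TensorProduct.tmul_sub, TensorProduct.tmul_smul,
      TensorProduct.tmul_sum, sub_eq_zero] at h'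
    simp only [← algebraMap_smul S d₄, ← algebraMap_smul S (c' _), ← hpowS] at h'
    have h'' := congrArg (fun z => e₄ • z) h'
    simp only [smul_smul, he₄, one_smul, Finset.smul_sum] at h''
    exact h''
  · rw [LinearMap.smul_apply, hpowS, hτ₀, hτ']
    funext l
    simp [Pi.single_apply, apply_ite (algebraMap R S), he₄]
  · have hPQ : Polynomial.C (algebraMap R S d₄) *
        ((Polynomial.X : S[X]) ^ r - ∑ j : Fin r, Polynomial.C (c j) * Polynomial.X ^ (j : ℕ)) = Q.map (algebraMap R S) := by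
      simp only [hQ, Polynomial.map_sub, Polynomial.map_mul, Polynomial.map_pow, Polynomial.map_C, Polynomial.map_X,
        Polynomial.map_sum, mul_sub, Finset.mul_sum, ← mul_assoc, ← map_mul, c]
      congr 1
      refine Finset.sum_congr rfl fun j _ => ?_
      congr 2
      linear_combination (algebraMap R S (c' j)) * he₄
    have hder : Polynomial.aeval ζ (Polynomial.derivative
        ((Polynomial.X : S[X]) ^ r - ∑ j : Fin r, Polynomial.C (c j) * Polynomial.X ^ (j : ℕ))) = e₄ • ((1 : S) ⊗ₜ[R] Y) := by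
      have h := congrArg (fun p => Polynomial.aeval ζ (Polynomial.derivative p)) hPQ
      simp only [Polynomial.derivative_C_mul, map_mul, Polynomial.aeval_C, ← Algebra.smul_def, Polynomial.derivative_map,
        Polynomial.aeval_map_algebraMap] at h
      rw [hY, show (1 : S) ⊗ₜ[R] Polynomial.aeval ξ (Polynomial.derivative Q) =
        (Algebra.TensorProduct.includeRight : A →ₐ[R] S ⊗[R] A) (Polynomial.aeval ξ (Polynomial.derivative Q)) from rfl,
        ← Polynomial.aeval_algHom_apply, Algebra.TensorProduct.includeRight_apply, ← hζ, ← h, smul_smul, he₄, one_smul]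
    have hsum : ∑ j : Fin r, (algebraMap R S d₄ * algebraMap R S d₄ * e₅ * algebraMap R S (Ψ₅ (Pi.single ⟨0, hr0⟩ 1) j)) •
        ζ ^ (j : ℕ) = (algebraMap R S d₄ * algebraMap R S d₄ * e₅) • ((1 : S) ⊗ₜ[R] Pw (Ψ₅ (Pi.single ⟨0, hr0⟩ 1))) := by
      rw [Fintype.linearCombination_apply, TensorProduct.tmul_sum, Finset.smul_sum]
      refine Finset.sum_congr rfl fun j _ => ?_
      rw [TensorProduct.tmul_smul, ← algebraMap_smul S (Ψ₅ (Pi.single ⟨0, hr0⟩ 1) j), smul_smul, hpowS]
    rw [hder, hsum, smul_mul_assoc, mul_smul_comm, Algebra.TensorProduct.tmul_mul_tmul, one_mul, smul_smul, map_smul,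
      LinearMap.smul_apply, hτ₀]
    have hT5 := LinearMap.congr_fun hΨ₅ (Pi.single ⟨0, hr0⟩ 1)
    simp only [T, LinearMap.comp_apply, LinearMap.mulLeft_apply, LinearMap.smul_apply, LinearMap.id_apply] at hT5
    rw [hT5]
    funext l
    simp only [Pi.smul_apply, smul_eq_mul, map_mul, Pi.single_apply, apply_ite (algebraMap R S), map_one, map_zero]
    split_ifs
    · linear_combination (e₄ * algebraMap R S d₄ + 1) * e₅ * algebraMap R S d₅ * he₄ + he₅
    · simp
  · obtain ⟨e₆, he₆⟩ := hu₆.exists_left_inv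
    have hbmul : ∀ i (j : Fin r), ((1 : S) ⊗ₜ[R] b i) * ζ ^ (j : ℕ) = (1 : S) ⊗ₜ[R] (b i * ξ ^ (j : ℕ)) := fun i j => by
      rw [hpowS, Algebra.TensorProduct.tmul_mul_tmul, one_mul]
    let F : (Fin r → Fin r → S) →ₗ[S] S ⊗[R] A :=
      { toFun := fun v => ∑ i, ∑ j, v i j • (((1 : S) ⊗ₜ[R] b i) * ζ ^ (j : ℕ))
        map_add' := fun v w => by simp [add_smul, Finset.sum_add_distrib]
        map_smul' := fun a v => by simp [Finset.smul_sum, smul_smul] }
    let G₀ : S ⊗[R] A →ₗ[S] (Fin r → Fin r → S) :=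
      LinearMap.liftBaseChange S ((((Algebra.linearMap R S).compLeft (Fin r)).compLeft (Fin r)) ∘ₗ Ψ₆)
    have hFG : ∀ z, F (G₀ z) = algebraMap R S d₆ • z := fun z => by
      induction z using TensorProduct.induction_on with
      | zero => simp
      | add p q hp hq => rw [map_add, map_add, hp, hq, smul_add]
      | tmul s a =>
        rw [show s ⊗ₜ[R] a = s • ((1 : S) ⊗ₜ[R] a) by rw [TensorProduct.smul_tmul', smul_eq_mul, mul_one], map_smul,
          map_smul, smul_comm (algebraMap R S d₆)]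
        congr 1
        have h := congrArg (fun a : A => (1 : S) ⊗ₜ[R] a) (LinearMap.congr_fun hΦΨ a)
        simp only [LinearMap.comp_apply, LinearMap.smul_apply, LinearMap.id_apply, TensorProduct.tmul_smul] at h
        rw [algebraMap_smul, ← h, LinearMap.liftBaseChange_tmul, one_smul]
        simp only [F, Φ, LinearMap.coe_mk, AddHom.coe_mk, TensorProduct.tmul_sum, TensorProduct.tmul_smul,
          LinearMap.comp_apply, hbmul]
        exact Finset.sum_congr rfl fun i _ => Finset.sum_congr rfl fun j _ => algebraMap_smul S _ _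
    have hGF : ∀ v, G₀ (F v) = algebraMap R S d₆ • v := fun v => by
      simp only [F, LinearMap.coe_mk, AddHom.coe_mk, map_sum, map_smul, hbmul]
      have h1 : ∀ (i j : Fin r), G₀ ((1 : S) ⊗ₜ[R] (b i * ξ ^ (j : ℕ))) =
          algebraMap R S d₆ • Pi.single i (Pi.single j (1 : S)) := fun i j => by
        have h := LinearMap.congr_fun hΨΦ (Pi.single i (Pi.single j 1))
        rw [LinearMap.comp_apply, show Φ (Pi.single i (Pi.single j 1)) = b i * ξ ^ (j : ℕ) by
          simp [Φ, Pi.single_apply, ite_apply]] at h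
        rw [LinearMap.liftBaseChange_tmul, one_smul, LinearMap.comp_apply, h]
        funext p q
        simp [Pi.single_apply, ite_apply, apply_ite (algebraMap R S)]
      simp only [h1]
      funext p q
      simp [Finset.sum_apply, Pi.single_apply, ite_apply, mul_comm, Algebra.smul_def]
    refine ⟨fun v w h => ?_, fun z => ⟨G₀ (e₆ • z), ?_⟩⟩
    · have h' := congrArg (fun z => e₆ • G₀ z) (show F v = F w from h)
      simpa only [hGF, smul_smul, he₆, one_smul] using h'
    · show F (G₀ (e₆ • z)) = z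
      rw [hFG, smul_smul, mul_comm, he₆, one_smul]

/-- An Azumaya algebra is split by a finite étale algebra near every field valued point of the base. -/
theorem exists_split_away : ∃ (r : ℕ) (d : R), 1 ≤ r ∧ algebraMap R κ d ≠ 0 ∧
    ∀ (S : Type u) [CommRing S] [Algebra R S] [Nontrivial S], IsUnit (algebraMap R S d) →
      ∃ (E : Type u) (_ : CommRing E) (_ : Algebra S E), Algebra.Etale S E ∧ Module.Finite S E ∧ Module.Free S E ∧
        Module.finrank S E = r ∧ Module.FaithfullyFlat S E ∧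
        Nonempty (E ⊗[S] (S ⊗[R] A) ≃ₐ[E] Matrix (Fin r) (Fin r) E) := by
  haveI := (fibre_csa (R := R) (κ := κ) (A := A)).1
  haveI := (fibre_csa (R := R) (κ := κ) (A := A)).2
  obtain ⟨r, hr⟩ := exists_finrank_sq κ (κ ⊗[R] A)
  obtain ⟨ξ, hsep, hrk⟩ := exists_regular_lift hfrac hr
  obtain ⟨d, hd, H⟩ := exists_data hfrac hr ξ hsep hrk
  refine ⟨r, d, pos_of_finrank κ _ r hr, hd, fun S _ _ _ hu => ?_⟩
  obtain ⟨hr0, c, τ, b, hrel, hτ, hunit, hb⟩ := H S hu
  haveI := AzumayaAlg.isAzumaya_baseChange (R := R) S A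
  obtain ⟨E, i1, i2, h1, h2, h3, h4, h5, u, τ', -, he⟩ := exists_split_of_data hr0 _ c hrel τ hτ hunit b hb
  exact ⟨E, i1, i2, h1, h2, h3, h4, h5, he⟩

end Groth.Agent.AzSplitLib
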