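import Groth.Agent.AzSplitLib.Away

/-!
# A faithfully flat splitting of an Azumaya algebra of constant rank
-/

set_option autoImplicit false
set_option backward.isDefEq.respectTransparency false

universe u

open scoped TensorProduct

namespace Groth.Agent.AzSplitLib

variable (R : Type u) [CommRing R] (A : Type u) [Ring A] [Algebra R A]

/-- The residue field of a prime is generated by fractions of elements of the ring. -/
theorem residueField_hfrac (p : Ideal R) [p.IsPrime] (z : p.ResidueField) :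
    ∃ a t : R, algebraMap R p.ResidueField t ≠ 0 ∧ algebraMap R p.ResidueField t * z = algebraMap R p.ResidueField a := by
  obtain ⟨a', b', hb', hz⟩ := IsFractionRing.div_surjective (A := R ⧸ p) z
  obtain ⟨a, rfl⟩ := Ideal.Quotient.mk_surjective a'
  obtain ⟨b, rfl⟩ := Ideal.Quotient.mk_surjective b'
  have hne : algebraMap (R ⧸ p) p.ResidueField (Ideal.Quotient.mk p b) ≠ 0 :=
    IsFractionRing.to_map_ne_zero_of_mem_nonZeroDivisors hb'
  refine ⟨a, b, ?_, ?_⟩
  · rwa [IsScalarTower.algebraMap_apply R (R ⧸ p) p.ResidueField]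
  · rw [IsScalarTower.algebraMap_apply R (R ⧸ p) p.ResidueField b, IsScalarTower.algebraMap_apply R (R ⧸ p) p.ResidueField a,
      ← hz]
    exact mul_div_cancel₀ _ hne

/-- Elements away from which the algebra is split by a flat algebra onto the basic open. -/
def splitSet (n : ℕ) : Set R :=
  {f | ∃ (E : Type u) (_ : CommRing E) (_ : Algebra R E), Module.Flat R E ∧
    (∀ P : PrimeSpectrum R, f ∉ P.asIdeal → ∃ Q : PrimeSpectrum E, Q.comap (algebraMap R E) = P) ∧
    Nonempty (E ⊗[R] A ≃ₐ[E] Matrix (Fin n) (Fin n) E)}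

theorem span_splitSet [IsAzumaya R A] (n : ℕ)
    (hrk : ∀ p : PrimeSpectrum R, Module.rankAtStalk (R := R) A p = n ^ 2) :
    Ideal.span (splitSet R A n) = ⊤ := by
  by_contra h
  obtain ⟨m, hm, hle⟩ := Ideal.exists_le_maximal _ h
  obtain ⟨r, f, -, hf, H⟩ := exists_split_away (A := A) (residueField_hfrac R m)
  refine (fun hfm : f ∈ m => hf (Ideal.algebraMap_residueField_eq_zero.2 hfm)) (hle (Ideal.subset_span ?_))
  have hu : IsUnit (algebraMap R m.ResidueField f) := isUnit_iff_ne_zero.2 hf
  haveI : Nontrivial (Localization.Away f) :=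
    (IsLocalization.Away.lift (S := Localization.Away f) f hu).domain_nontrivial
  set S := Localization.Away f
  obtain ⟨E, _, _, -, -, -, -, hFF, ⟨θ⟩⟩ := H S (IsLocalization.Away.algebraMap_isUnit f)
  letI : Algebra R E := ((algebraMap S E).comp (algebraMap R S)).toAlgebra
  haveI : IsScalarTower R S E := IsScalarTower.of_algebraMap_eq' rfl
  haveI : Module.Flat R S := IsLocalization.flat S (Submonoid.powers f)
  have hsurj : ∀ P : PrimeSpectrum R, f ∉ P.asIdeal → ∃ Q : PrimeSpectrum E, Q.comap (algebraMap R E) = P := by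
    intro P hP
    have : P ∈ Set.range (PrimeSpectrum.comap (algebraMap R S)) := by
      rw [PrimeSpectrum.localization_away_comap_range S f]
      exact hP
    obtain ⟨Q₀, rfl⟩ := this
    obtain ⟨Q, rfl⟩ := PrimeSpectrum.comap_surjective_of_faithfullyFlat (B := E) Q₀
    exact ⟨Q, rfl⟩
  let e : E ⊗[R] A ≃ₐ[E] Matrix (Fin r) (Fin r) E := (((Algebra.TensorProduct.assoc R S E E S A).symm.trans
    (Algebra.TensorProduct.congr (Algebra.TensorProduct.rid S E E) AlgEquiv.refl)).symm).trans θ
  obtain ⟨Q, -⟩ := hsurj ⟨m, hm.isPrime⟩ fun hfm => hf (Ideal.algebraMap_residueField_eq_zero.2 hfm)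
  haveI : Nontrivial E := PrimeSpectrum.nonempty_iff_nontrivial.1 ⟨Q⟩
  have h1 := congrFun (Module.rankAtStalk_eq_of_equiv e.toLinearEquiv) Q
  rw [Module.rankAtStalk_baseChange, hrk, Module.rankAtStalk_eq_finrank_of_free] at h1
  have hrn : r = n := by
    simp [Module.finrank_matrix, sq] at h1
    exact (Nat.mul_self_inj.1 h1).symm
  subst hrn
  exact ⟨E, inferInstance, inferInstance, Module.Flat.trans R S E, hsurj, ⟨e⟩⟩

/-- An Azumaya algebra of constant rank `n²` is split by a faithfully flat algebra. -/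
theorem exists_faithfullyFlat_split [IsAzumaya R A] (n : ℕ)
    (hrk : ∀ p : PrimeSpectrum R, Module.rankAtStalk (R := R) A p = n ^ 2) :
    ∃ (R' : Type u) (_ : CommRing R') (_ : Algebra R R'), Module.FaithfullyFlat R R' ∧
      Nonempty (R' ⊗[R] A ≃ₐ[R'] Matrix (Fin n) (Fin n) R') := by
  classical
  obtain ⟨s, hs, hspan⟩ := (Ideal.span_eq_top_iff_finite _).1 (span_splitSet R A n hrk)
  choose E iC iA hflat hsurj he using fun i : s => hs i.2
  letI : ∀ i, CommRing (E i) := iC
  letI : ∀ i, Algebra R (E i) := iA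
  haveI : ∀ i, Module.Flat R (E i) := hflat
  haveI : Module.Flat R (Π i, E i) := Module.Flat.of_linearEquiv (DirectSum.linearEquivFunOnFintype R s E).symm
  have hFF : Module.FaithfullyFlat R (Π i, E i) := by
    refine Module.FaithfullyFlat.of_comap_surjective fun P => ?_
    obtain ⟨i, hi⟩ : ∃ i : s, (i : R) ∉ P.asIdeal := by
      by_contra hall
      push Not at hall
      exact P.isPrime.ne_top (top_le_iff.1 (hspan ▸ Ideal.span_le.2 fun x hx => hall ⟨x, hx⟩))
    obtain ⟨Q, rfl⟩ := hsurj i P hi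
    exact ⟨Q.comap (Pi.evalRingHom E i), rfl⟩
  refine ⟨(Π i, E i), inferInstance, inferInstance, hFF, ?_⟩
  let e : ∀ i, E i ⊗[R] A ≃ₐ[E i] Matrix (Fin n) (Fin n) (E i) := fun i => (he i).some
  let j : A →ₐ[R] Matrix (Fin n) (Fin n) (Π i, E i) :=
    AlgHom.ofLinearMap
      { toFun := fun a => Matrix.of fun k l i => e i (1 ⊗ₜ a) k l
        map_add' := fun a b => by ext k l i; simp [TensorProduct.tmul_add]
        map_smul' := fun c a => by
          ext k l i
          show e i (1 ⊗ₜ (c • a)) k l = c • e i (1 ⊗ₜ a) k l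
          rw [TensorProduct.tmul_smul, ← algebraMap_smul (E i) c, map_smul, Matrix.smul_apply, algebraMap_smul] }
      (by
        ext k l i
        show e i (1 ⊗ₜ 1) k l = _
        rw [← Algebra.TensorProduct.one_def, map_one, Matrix.one_apply, Matrix.one_apply]
        split_ifs <;> rfl)
      fun a b => by
        ext k l i
        show e i (1 ⊗ₜ (a * b)) k l = _
        rw [show (1 : E i) ⊗ₜ[R] (a * b) = (1 ⊗ₜ a) * (1 ⊗ₜ b) by simp, map_mul, Matrix.mul_apply, Matrix.mul_apply,
          Finset.sum_apply]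
        rfl
  let F : (Π i, E i) ⊗[R] A →ₐ[(Π i, E i)] Matrix (Fin n) (Fin n) (Π i, E i) :=
    Algebra.TensorProduct.lift (Algebra.ofId (Π i, E i) _) j fun r a => Algebra.commutes r _
  let L := (TensorProduct.comm R (Π i, E i) A ≪≫ₗ TensorProduct.piRight R R A E) ≪≫ₗ
    LinearEquiv.piCongrRight fun i => TensorProduct.comm R A (E i) ≪≫ₗ (e i).toLinearEquiv.restrictScalars R
  have hL : ∀ z k l i, F z k l i = L z i k l := fun z k l i => by
    induction z using TensorProduct.induction_on with
    | zero => simp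
    | add x y hx hy => simp only [map_add, Matrix.add_apply, Pi.add_apply, hx, hy]
    | tmul r a =>
      have h1 : L (r ⊗ₜ[R] a) i = e i (r i ⊗ₜ a) := by simp [L, TensorProduct.piRightHom_tmul]
      rw [h1, show r i ⊗ₜ[R] a = r i • ((1 : E i) ⊗ₜ a) by rw [TensorProduct.smul_tmul', smul_eq_mul, mul_one], map_smul]
      simp [F, j, Algebra.ofId_apply, Matrix.algebraMap_eq_diagonal, Matrix.diagonal_mul]
  refine ⟨AlgEquiv.ofBijective F ⟨fun x y hxy => L.injective ?_, fun X => ⟨L.symm fun i => Matrix.of fun k l => X k l i, ?_⟩⟩⟩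
  · funext i
    ext k l
    rw [← hL, ← hL, hxy]
  · ext k l i
    rw [hL, LinearEquiv.apply_symm_apply]
    rfl

end Groth.Agent.AzSplitLib
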