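import Groth.Agent.CSADescent.BaseChange
import Groth.Agent.CSADescent.SepClosed
import Groth.Agent.CSADescent.Semisimple
import Groth.Agent.TraceEt.Basic

/-!
# Maximal étale subalgebras of central simple algebras

Over an algebraic closure a commutative étale subalgebra of dimension `r` of a central simple algebra of dimension
`r²` becomes the algebra of diagonal matrices. This gives the centraliser, freeness of the algebra over the
subalgebra, and the existence of regular elements.
-/

set_option autoImplicit false
set_option backward.isDefEq.respectTransparency false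

universe u v

open scoped TensorProduct Polynomial

namespace Groth.Agent.AzSplitLib

section linalg

variable {K : Type u} [Field K] {r : ℕ}

/-- Eigenvectors for `r` distinct eigenvalues form a basis of `K^r`. -/
theorem exists_basis_eigen (f : Module.End K (Fin r → K)) (c : Fin r → K) (hc : Function.Injective c)
    (v : Fin r → (Fin r → K)) (hv : ∀ i, v i ≠ 0) (hfv : ∀ i, f (v i) = c i • v i) :
    ∃ b : Module.Basis (Fin r) K (Fin r → K), ∀ i, b i = v i := by
  have hli : LinearIndependent K v :=
    Module.End.eigenvectors_linearIndependent' f c hc v fun i => ⟨Module.End.mem_eigenspace_iff.2 (hfv i), hv i⟩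
  rcases Nat.eq_zero_or_pos r with rfl | hr
  · exact ⟨Pi.basisFun K _, fun i => i.elim0⟩
  haveI : Nonempty (Fin r) := ⟨⟨0, hr⟩⟩
  exact ⟨basisOfLinearIndependentOfCardEqFinrank hli (by simp), fun i => by simp⟩

/-- A matrix with separable characteristic polynomial is diagonalisable. -/
theorem exists_eigen_of_separable [IsAlgClosed K] (X : Matrix (Fin r) (Fin r) K) (h : X.charpoly.Separable) :
    ∃ (c : Fin r → K) (v : Fin r → (Fin r → K)), Function.Injective c ∧ (∀ i, v i ≠ 0) ∧
      ∀ i, Matrix.toLin' X (v i) = c i • v i := by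
  classical
  have hs : X.charpoly.Splits := IsAlgClosed.splits _
  have hcard : X.charpoly.roots.toFinset.card = r := by
    rw [Multiset.toFinset_card_of_nodup (Polynomial.nodup_roots h), ← hs.natDegree_eq_card_roots,
      Matrix.charpoly_natDegree_eq_dim, Fintype.card_fin]
  set e : Fin r ≃ X.charpoly.roots.toFinset := ((Finset.equivFinOfCardEq hcard).symm)
  have hex : ∀ i, ∃ v : Fin r → K, v ≠ 0 ∧ Matrix.toLin' X v = (e i : K) • v := fun i => by
    have hroot : X.charpoly.eval (e i : K) = 0 :=
      (Polynomial.mem_roots'.1 (Multiset.mem_toFinset.1 (e i).2)).2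
    rw [Matrix.eval_charpoly] at hroot
    obtain ⟨v, hv, hv0⟩ := Matrix.exists_mulVec_eq_zero_iff.2 hroot
    refine ⟨v, hv, ?_⟩
    rw [Matrix.sub_mulVec, sub_eq_zero] at hv0
    rw [Matrix.toLin'_apply, ← hv0, Matrix.scalar_apply]
    funext j
    simp [Matrix.mulVec_diagonal]
  choose v hv hvX using hex
  exact ⟨fun i => (e i : K), v, fun i j hij => e.injective (Subtype.ext hij), hv, hvX⟩

/-- In a basis of eigenvectors the matrix is diagonal. -/
lemma toMatrixAlgEquiv_diagonal (f : Module.End K (Fin r → K)) (d : Fin r → K)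
    (b : Module.Basis (Fin r) K (Fin r → K)) (hb : ∀ i, f (b i) = d i • b i) :
    LinearMap.toMatrixAlgEquiv b f = Matrix.diagonal d := by
  ext i j
  rw [LinearMap.toMatrixAlgEquiv_apply, hb, map_smul, Finsupp.smul_apply, Module.Basis.repr_self, smul_eq_mul,
    Matrix.diagonal_apply, Finsupp.single_apply]
  by_cases h : i = j
  · subst h; simp
  · simp [h, Ne.symm h]

/-- Matrices commuting with a diagonal matrix with distinct entries are diagonal. -/
lemma eq_diagonal_of_commute {c : Fin r → K} (hc : Function.Injective c) (Y : Matrix (Fin r) (Fin r) K)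
    (h : Y * Matrix.diagonal c = Matrix.diagonal c * Y) : Y = Matrix.diagonal fun i => Y i i := by
  ext i j
  by_cases hij : i = j
  · subst hij; simp
  · have h' := congrFun (congrFun h i) j
    rw [Matrix.mul_diagonal, Matrix.diagonal_mul] at h'
    have h'' : (c j - c i) * Y i j = 0 := by linear_combination h'
    rw [Matrix.diagonal_apply_ne _ hij]
    exact (mul_eq_zero.1 h'').resolve_left (sub_ne_zero.2 fun e => hij (hc e).symm)

end linalg

variable (k : Type u) [Field k] (C : Type v) [Ring C] [Algebra k C]

/-- A central simple algebra of dimension `r²` splits over the algebraic closure as `r × r` matrices. -/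
theorem exists_splitting [Algebra.IsCentral k C] [IsSimpleRing C] [FiniteDimensional k C] (r : ℕ)
    (hr : Module.finrank k C = r ^ 2) :
    Nonempty ((AlgebraicClosure k ⊗[k] C) ≃ₐ[AlgebraicClosure k] Matrix (Fin r) (Fin r) (AlgebraicClosure k)) := by
  haveI := CSADescent.isCentral_baseChange (k := k) (L := AlgebraicClosure k) (A := C)
  haveI := CSADescent.isSimpleRing_baseChange (k := k) (L := AlgebraicClosure k) (A := C)
  obtain ⟨m, ⟨e⟩⟩ := CSADescent.exists_algEquiv_matrix (L := AlgebraicClosure k) (AlgebraicClosure k ⊗[k] C)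
  have h := e.toLinearEquiv.finrank_eq
  rw [Module.finrank_baseChange, hr, Module.finrank_matrix, Fintype.card_fin, Module.finrank_self, mul_one,
    sq] at h
  obtain rfl : m = r := (Nat.mul_self_inj.1 h).symm
  exact ⟨e⟩

/-- Over a central simple algebra of dimension `r²`, the number `r` is positive. -/
theorem pos_of_finrank [IsSimpleRing C] [FiniteDimensional k C] (r : ℕ) (hr : Module.finrank k C = r ^ 2) : 0 < r := by
  refine Nat.pos_of_ne_zero fun h => ?_
  have : 0 < Module.finrank k C := Module.finrank_pos
  simp [hr, h] at this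

variable {k C} {r : ℕ}

/-- An element with separable characteristic polynomial becomes diagonal in a suitable splitting. -/
theorem exists_diag_of_separable
    (ψ : (AlgebraicClosure k ⊗[k] C) ≃ₐ[AlgebraicClosure k] Matrix (Fin r) (Fin r) (AlgebraicClosure k)) (x : C)
    (hx : (ψ (1 ⊗ₜ[k] x)).charpoly.Separable) :
    ∃ (φ : (AlgebraicClosure k ⊗[k] C) ≃ₐ[AlgebraicClosure k] Matrix (Fin r) (Fin r) (AlgebraicClosure k))
      (c : Fin r → AlgebraicClosure k), Function.Injective c ∧ φ (1 ⊗ₜ[k] x) = Matrix.diagonal c := by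
  obtain ⟨c, v, hc, hv, hXv⟩ := exists_eigen_of_separable _ hx
  obtain ⟨b, hb⟩ := exists_basis_eigen _ c hc v hv hXv
  refine ⟨ψ.trans (Matrix.toLinAlgEquiv'.trans (LinearMap.toMatrixAlgEquiv b)), c, hc, ?_⟩
  exact toMatrixAlgEquiv_diagonal _ c b fun i => by rw [hb]; exact hXv i

/-- An étale subalgebra of dimension `r` becomes the diagonal. -/
theorem exists_diag_of_subalgebra
    (ψ : (AlgebraicClosure k ⊗[k] C) ≃ₐ[AlgebraicClosure k] Matrix (Fin r) (Fin r) (AlgebraicClosure k))
    {L : Type u} [CommRing L] [Algebra k L] [FiniteDimensional k L] [IsReduced (AlgebraicClosure k ⊗[k] L)]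
    (hL : Module.finrank k L = r) (ι : L →ₐ[k] C) (hι : Function.Injective ι) :
    ∃ (φ : (AlgebraicClosure k ⊗[k] C) ≃ₐ[AlgebraicClosure k] Matrix (Fin r) (Fin r) (AlgebraicClosure k))
      (χ : (AlgebraicClosure k ⊗[k] L) ≃ₐ[AlgebraicClosure k] (Fin r → AlgebraicClosure k)),
      ∀ z, φ (Algebra.TensorProduct.map (AlgHom.id (AlgebraicClosure k) (AlgebraicClosure k)) ι z) =
        Matrix.diagonal (χ z) := by
  classical
  obtain ⟨J, _, ⟨e⟩⟩ := TraceEt.exists_algEquiv_pi (K := AlgebraicClosure k) (B := AlgebraicClosure k ⊗[k] L)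
  have hJ : Fintype.card J = r := by
    have := e.toLinearEquiv.finrank_eq
    rwa [Module.finrank_baseChange, hL, Module.finrank_pi, eq_comm] at this
  let σ : Fin r ≃ J := (Fintype.equivFinOfCardEq hJ).symm
  let χ : (AlgebraicClosure k ⊗[k] L) ≃ₐ[AlgebraicClosure k] (Fin r → AlgebraicClosure k) :=
    e.trans (AlgEquiv.piCongrLeft' (AlgebraicClosure k) (fun _ : J => AlgebraicClosure k) σ.symm)
  let Φ : (AlgebraicClosure k ⊗[k] L) →ₐ[AlgebraicClosure k] Module.End (AlgebraicClosure k) (Fin r → AlgebraicClosure k) :=
    ((ψ.trans Matrix.toLinAlgEquiv').toAlgHom).comp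
      (Algebra.TensorProduct.map (AlgHom.id (AlgebraicClosure k) (AlgebraicClosure k)) ι)
  have hΦ : Function.Injective Φ := by
    refine (ψ.trans Matrix.toLinAlgEquiv').injective.comp ?_
    exact Module.Flat.lTensor_preserves_injective_linearMap ι.toLinearMap hι
  let c : Fin r → AlgebraicClosure k := fun i =>
    Infinite.natEmbedding (AlgebraicClosure k) i
  have hc : Function.Injective c := fun i j h => Fin.ext ((Infinite.natEmbedding _).injective h)
  have hP : ∀ i, Φ (χ.symm (Pi.single i 1)) ≠ 0 := fun i h => by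
    have := congrFun (χ.symm.injective ((hΦ (h.trans (map_zero Φ).symm)).trans (map_zero χ.symm).symm)) i
    simp at this
  have hex : ∀ i, ∃ v, v ≠ 0 ∧ Φ (χ.symm (Pi.single i 1)) v = v := fun i => by
    obtain ⟨w, hw⟩ : ∃ w, Φ (χ.symm (Pi.single i 1)) w ≠ 0 := by
      by_contra hcon
      push Not at hcon
      exact hP i (LinearMap.ext hcon)
    refine ⟨_, hw, ?_⟩
    rw [← Module.End.mul_apply, ← map_mul, ← map_mul, ← Pi.single_mul, one_mul]
  choose v hv hPv using hex
  have hact : ∀ (d : Fin r → AlgebraicClosure k) i, Φ (χ.symm d) (v i) = d i • v i := fun d i => by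
    conv_lhs => rw [← hPv i, ← Module.End.mul_apply, ← map_mul, ← map_mul,
      show d * Pi.single i 1 = d i • Pi.single i 1 by ext j; by_cases h : j = i <;> simp [h],
      map_smul, map_smul, LinearMap.smul_apply, hPv]
  obtain ⟨b, hb⟩ := exists_basis_eigen (Φ (χ.symm c)) c hc v hv (hact c)
  refine ⟨ψ.trans (Matrix.toLinAlgEquiv'.trans (LinearMap.toMatrixAlgEquiv b)), χ, fun z => ?_⟩
  refine toMatrixAlgEquiv_diagonal _ _ b fun i => ?_
  rw [hb]
  have := hact (χ z) i
  rwa [χ.symm_apply_apply] at this

/-- An element which is diagonal in a splitting is separable. -/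
theorem isSeparable_of_diagonal [FiniteDimensional k C]
    (φ : (AlgebraicClosure k ⊗[k] C) ≃ₐ[AlgebraicClosure k] Matrix (Fin r) (Fin r) (AlgebraicClosure k)) (y : C)
    (d : Fin r → AlgebraicClosure k) (hy : φ (1 ⊗ₜ[k] y) = Matrix.diagonal d) : IsSeparable k y := by
  classical
  let j : C →ₐ[k] Matrix (Fin r) (Fin r) (AlgebraicClosure k) :=
    (φ.toAlgHom.restrictScalars k).comp Algebra.TensorProduct.includeRight
  have hj : ∀ q : k[X], j (Polynomial.aeval y q) = Matrix.diagonal fun i => Polynomial.aeval (d i) q := fun q => by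
    rw [← Polynomial.aeval_algHom_apply, show j y = Matrix.diagonalAlgHom k d from hy, Polynomial.aeval_algHom_apply]
    show Matrix.diagonal (Polynomial.aeval d q) = _
    congr 1
    funext i
    exact (Polynomial.aeval_algHom_apply (Pi.evalAlgHom k (fun _ : Fin r => AlgebraicClosure k) i) d q).symm
  have hjinj : Function.Injective j := fun a b h => by
    have := φ.injective h
    exact Algebra.TensorProduct.includeRight_injective (algebraMap k (AlgebraicClosure k)).injective this
  set g : k[X] := Finset.univ.prod fun q : (Finset.univ.image fun i => minpoly k (d i) : Finset k[X]) => (q : k[X])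
  have hint : ∀ i, IsIntegral k (d i) := fun i => Algebra.IsIntegral.isIntegral _
  have hsep : ∀ q ∈ (Finset.univ.image fun i => minpoly k (d i)), Irreducible q ∧ q.Monic ∧ ∃ i, q = minpoly k (d i) :=
    fun q hq => by
      obtain ⟨i, -, rfl⟩ := Finset.mem_image.1 hq
      exact ⟨minpoly.irreducible (hint i), minpoly.monic (hint i), i, rfl⟩
  set m := minpoly k y
  have hm0 : m ≠ 0 := minpoly.ne_zero (Algebra.IsIntegral.isIntegral y)
  have hmd : ∀ i, Polynomial.aeval (d i) m = 0 := fun i => by
    have h := hj m
    rw [minpoly.aeval, map_zero] at h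
    simpa using (congrFun (congrFun h i) i).symm
  show m.Separable
  -- the product of the distinct values gives the minimal polynomial over the closure
  let p : (AlgebraicClosure k)[X] := ∏ a ∈ Finset.univ.image d, (Polynomial.X - Polynomial.C a)
  have hp : p.Separable := Polynomial.separable_prod_X_sub_C_iff'.2 fun a _ b _ h => h
  have hpd : ∀ i, p.eval (d i) = 0 := fun i => by
    rw [Polynomial.eval_prod]
    exact Finset.prod_eq_zero (Finset.mem_image_of_mem d (Finset.mem_univ i)) (by simp)
  have hp0 : p.Monic := Polynomial.monic_prod_of_monic _ _ fun a _ => Polynomial.monic_X_sub_C a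
  have hdvd : p ∣ m.map (algebraMap k (AlgebraicClosure k)) := by
    refine Finset.prod_dvd_of_coprime
      (fun a _ b _ hab => Polynomial.isCoprime_X_sub_C_of_isUnit_sub (sub_ne_zero.2 hab).isUnit) fun a ha => ?_
    obtain ⟨i, -, rfl⟩ := Finset.mem_image.1 ha
    rw [Polynomial.dvd_iff_isRoot, Polynomial.IsRoot.def, Polynomial.eval_map_algebraMap]
    exact hmd i
  have hpy : Polynomial.aeval ((1 : AlgebraicClosure k) ⊗ₜ[k] y) p = 0 := by
    refine φ.injective ?_
    rw [map_zero, ← Polynomial.aeval_algHom_apply, hy]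
    rw [show Matrix.diagonal d = Matrix.diagonalAlgHom (AlgebraicClosure k) d from rfl,
      Polynomial.aeval_algHom_apply]
    show Matrix.diagonal (Polynomial.aeval d p) = 0
    rw [show Polynomial.aeval d p = 0 from funext fun i => by
      rw [← Pi.evalAlgHom_apply (AlgebraicClosure k) (fun _ : Fin r => AlgebraicClosure k) i (Polynomial.aeval d p),
        ← Polynomial.aeval_algHom_apply]
      simpa using hpd i]
    exact Matrix.diagonal_zero
  have hdeg : m.natDegree ≤ p.natDegree := by
    by_contra hlt
    push Not at hlt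
    have hli : LinearIndependent k (fun i : Fin m.natDegree => y ^ (i : ℕ)) := linearIndependent_pow y
    have hli' : LinearIndependent (AlgebraicClosure k)
        (fun i : Fin m.natDegree => ((1 : AlgebraicClosure k) ⊗ₜ[k] y) ^ (i : ℕ)) := by
      rw [Fintype.linearIndependent_iff]
      intro gg hgg
      have key : ∑ i : Fin m.natDegree, gg i ⊗ₜ[k] (y ^ (i : ℕ)) = (0 : AlgebraicClosure k ⊗[k] C) := by
        rw [← hgg]
        refine Finset.sum_congr rfl fun i _ => ?_
        rw [Algebra.TensorProduct.tmul_pow, one_pow, TensorProduct.smul_tmul', smul_eq_mul, mul_one]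
      obtain ⟨f, hf⟩ := LinearMap.exists_leftInverse_of_injective
        (Fintype.linearCombination k (fun i : Fin m.natDegree => y ^ (i : ℕ)))
        (LinearMap.ker_eq_bot.2 (linearIndependent_iff_injective_fintypeLinearCombination.1 hli))
      intro i
      have hfi : ∀ l : Fin m.natDegree, f (y ^ (l : ℕ)) = Pi.single l 1 := fun l => by
        have := LinearMap.congr_fun hf (Pi.single l 1)
        simpa [Fintype.linearCombination_apply_single] using this
      have := congrArg (fun z => TensorProduct.AlgebraTensorModule.rid k (AlgebraicClosure k) (AlgebraicClosure k)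
        (LinearMap.baseChange (AlgebraicClosure k) (LinearMap.proj i ∘ₗ f) z)) key
      simpa [map_sum, hfi, Pi.single_apply] using this
    have hsum := Polynomial.aeval_eq_sum_range' (n := m.natDegree) hlt ((1 : AlgebraicClosure k) ⊗ₜ[k] y)
    rw [hpy, ← Fin.sum_univ_eq_sum_range (fun i => p.coeff i • ((1 : AlgebraicClosure k) ⊗ₜ[k] y) ^ i)] at hsum
    have := Fintype.linearIndependent_iff.1 hli' _ hsum.symm ⟨p.natDegree, hlt⟩
    simp [hp0.coeff_natDegree] at this
  have heq : m.map (algebraMap k (AlgebraicClosure k)) = p :=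
    Polynomial.eq_of_monic_of_dvd_of_natDegree_le hp0 ((minpoly.monic (Algebra.IsIntegral.isIntegral y)).map _) hdvd
      (by rw [Polynomial.natDegree_map]; exact hdeg)
  exact (Polynomial.separable_map (algebraMap k (AlgebraicClosure k))).1 (heq ▸ hp)

/-- The centraliser of a maximal étale subalgebra is the subalgebra. -/
theorem mem_range_of_commute [Algebra.IsCentral k C] [IsSimpleRing C] [FiniteDimensional k C]
    (hr : Module.finrank k C = r ^ 2)
    {L : Type u} [CommRing L] [Algebra k L] [FiniteDimensional k L] [IsReduced (AlgebraicClosure k ⊗[k] L)]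
    (hL : Module.finrank k L = r) (ι : L →ₐ[k] C) (hι : Function.Injective ι) (y : C)
    (hy : ∀ l, y * ι l = ι l * y) : ∃ l, ι l = y := by
  classical
  obtain ⟨ψ⟩ := exists_splitting k C r hr
  obtain ⟨φ, χ, hφ⟩ := exists_diag_of_subalgebra ψ hL ι hι
  let M := Algebra.TensorProduct.map (AlgHom.id (AlgebraicClosure k) (AlgebraicClosure k)) ι
  have hcomm : ∀ z, ((1 : AlgebraicClosure k) ⊗ₜ[k] y) * M z = M z * ((1 : AlgebraicClosure k) ⊗ₜ[k] y) := fun z => by
    induction z using TensorProduct.induction_on with
    | zero => simp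
    | tmul a l => simp [M, hy]
    | add p q hp hq => rw [map_add, mul_add, add_mul, hp, hq]
  let c : Fin r → AlgebraicClosure k := fun i => Infinite.natEmbedding (AlgebraicClosure k) i
  have hc : Function.Injective c := fun i j h => Fin.ext ((Infinite.natEmbedding _).injective h)
  have h1 := congrArg φ (hcomm (χ.symm c))
  rw [map_mul, map_mul, hφ, χ.apply_symm_apply] at h1
  have h2 := eq_diagonal_of_commute hc _ h1
  rw [← χ.apply_symm_apply (fun i => φ (1 ⊗ₜ[k] y) i i), ← hφ] at h2
  have h3 := φ.injective h2
  by_contra hne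
  push Not at hne
  obtain ⟨f, hf, hfR⟩ := Submodule.exists_dual_map_eq_bot_of_notMem (p := LinearMap.range ι.toLinearMap)
    (show y ∉ _ from fun ⟨l, hl⟩ => hne l hl) inferInstance
  have h4 := congrArg (fun t => TensorProduct.AlgebraTensorModule.rid k (AlgebraicClosure k) (AlgebraicClosure k)
    (LinearMap.baseChange (AlgebraicClosure k) f t)) h3
  have h5 : ∀ z, LinearMap.baseChange (AlgebraicClosure k) f (M z) = 0 := fun z => by
    induction z using TensorProduct.induction_on with
    | zero => simp
    | tmul a l =>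
      have : f (ι l) = 0 := (Submodule.mem_bot k).1 (hfR ▸ Submodule.mem_map_of_mem (f := f) ⟨l, rfl⟩)
      simp [M, this]
    | add p q hp hq => rw [map_add, map_add, hp, hq, add_zero]
  rw [h5] at h4
  simp at h4
  exact hf h4

end Groth.Agent.AzSplitLib
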