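import Groth.Agent.AzSplitLib.Regular

/-!
# Splitting Azumaya algebras by finite étale algebras near a prime
-/

set_option autoImplicit false
set_option backward.isDefEq.respectTransparency false

universe u

open scoped TensorProduct Polynomial
open MulOpposite

namespace Groth.Agent.AzSplitLib

variable {R : Type u} [CommRing R]

section away

variable {κ : Type u} [Field κ] [Algebra R κ]

section lift
variable (hfrac : ∀ z : κ, ∃ a t : R, algebraMap R κ t ≠ 0 ∧ algebraMap R κ t * z = algebraMap R κ a)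
include hfrac

/-- Every element of the fibre comes from the base up to a scalar not vanishing in the field. -/
theorem exists_scaled {N : Type u} [AddCommGroup N] [Module R N] (z : κ ⊗[R] N) :
    ∃ t : R, algebraMap R κ t ≠ 0 ∧ ∃ n : N, algebraMap R κ t • z = 1 ⊗ₜ[R] n := by
  induction z using TensorProduct.induction_on with
  | zero => exact ⟨1, by simp, 0, by simp⟩
  | tmul c n =>
    obtain ⟨a, t, ht, he⟩ := hfrac c
    refine ⟨t, ht, a • n, ?_⟩
    rw [TensorProduct.smul_tmul', smul_eq_mul, he, ← mul_one (algebraMap R κ a), ← Algebra.smul_def,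
      TensorProduct.smul_tmul]
  | add p q hp hq =>
    obtain ⟨s, hs, n, hn⟩ := hp
    obtain ⟨t, ht, m, hm⟩ := hq
    refine ⟨s * t, by rw [map_mul]; exact mul_ne_zero hs ht, t • n + s • m, ?_⟩
    rw [map_mul, smul_add, mul_smul, mul_smul, hm, smul_comm, hn, TensorProduct.tmul_add, TensorProduct.tmul_smul,
      TensorProduct.tmul_smul, algebraMap_smul, algebraMap_smul]

/-- Linear maps of fibres lift up to a scalar. -/
theorem exists_lift_scaled {M : Type u} [AddCommGroup M] [Module R M] [Module.Finite R M] [Module.Projective R M]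
    {N : Type u} [AddCommGroup N] [Module R N] (φ : κ ⊗[R] M →ₗ[κ] κ ⊗[R] N) :
    ∃ t : R, algebraMap R κ t ≠ 0 ∧ ∃ f : M →ₗ[R] N, LinearMap.baseChange κ f = algebraMap R κ t • φ := by
  classical
  obtain ⟨n, π, ι, -, -, hπι⟩ := Module.Finite.exists_comp_eq_id_of_projective R M
  choose t ht w hw using fun l => exists_scaled hfrac (φ ((1 : κ) ⊗ₜ[R] π (Pi.single l 1)))
  refine ⟨∏ l, t l, by rw [map_prod]; exact Finset.prod_ne_zero_iff.2 fun l _ => ht l,
    (∑ l, (LinearMap.proj l : (Fin n → R) →ₗ[R] R).smulRight ((∏ l' ∈ Finset.univ.erase l, t l') • w l)) ∘ₗ ι, ?_⟩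
  have hl : ∀ l, algebraMap R κ (∏ l', t l') • φ ((1 : κ) ⊗ₜ[R] π (Pi.single l 1)) =
      (1 : κ) ⊗ₜ[R] ((∏ l' ∈ Finset.univ.erase l, t l') • w l) := fun l => by
    rw [← Finset.mul_prod_erase _ _ (Finset.mem_univ l), mul_comm, map_mul, mul_smul, hw, TensorProduct.tmul_smul,
      algebraMap_smul]
  refine TensorProduct.AlgebraTensorModule.ext fun c x => ?_
  have hsm : ∀ y : N, c ⊗ₜ[R] y = c • ((1 : κ) ⊗ₜ[R] y) := fun y => by
    rw [TensorProduct.smul_tmul', smul_eq_mul, mul_one]
  rw [LinearMap.baseChange_tmul, show c ⊗ₜ[R] x = c • ((1 : κ) ⊗ₜ[R] x) by rw [TensorProduct.smul_tmul', smul_eq_mul, mul_one],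
    map_smul, LinearMap.smul_apply, hsm]
  congr 1
  conv_rhs => rw [show x = π (ι x) from (LinearMap.congr_fun hπι x).symm, pi_eq_sum_univ' (ι x)]
  simp only [LinearMap.comp_apply, LinearMap.sum_apply, LinearMap.smulRight_apply, LinearMap.proj_apply,
    TensorProduct.tmul_sum, map_sum, map_smul, TensorProduct.tmul_smul, LinearMap.map_smul_of_tower, Finset.smul_sum]
  refine Finset.sum_congr rfl fun l _ => ?_
  rw [smul_comm (algebraMap R κ (∏ l', t l')), hl, TensorProduct.tmul_smul]

/-- A map injective on the fibre has a left inverse away from a scalar. -/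
theorem exists_left_inverse_away {M : Type u} [AddCommGroup M] [Module R M] [Module.Finite R M] [Module.Projective R M]
    {N : Type u} [AddCommGroup N] [Module R N] [Module.Finite R N] [Module.Projective R N] (Φ : M →ₗ[R] N)
    (h : Function.Injective (LinearMap.baseChange κ Φ)) :
    ∃ d : R, algebraMap R κ d ≠ 0 ∧ ∃ Ψ : N →ₗ[R] M, Ψ ∘ₗ Φ = d • LinearMap.id := by
  classical
  obtain ⟨g, hg⟩ := (LinearMap.baseChange κ Φ).exists_leftInverse_of_injective (LinearMap.ker_eq_bot.2 h)
  obtain ⟨t, ht, Ψ₀, hΨ₀⟩ := exists_lift_scaled hfrac g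
  obtain ⟨n, π, ι, -, -, hπι⟩ := Module.Finite.exists_comp_eq_id_of_projective R M
  set T' : (Fin n → R) →ₗ[R] (Fin n → R) := ι ∘ₗ (Ψ₀ ∘ₗ Φ) ∘ₗ π + t • (LinearMap.id - ι ∘ₗ π) with hT'
  set Adj := Matrix.toLin' (LinearMap.toMatrix' T').adjugate with hAdj
  refine ⟨LinearMap.det T', ?_, π ∘ₗ Adj ∘ₗ ι ∘ₗ Ψ₀, ?_⟩
  · have hb : LinearMap.baseChange κ T' = algebraMap R κ t • LinearMap.id := by
      rw [hT', LinearMap.baseChange_add, LinearMap.baseChange_smul, LinearMap.baseChange_sub, LinearMap.baseChange_comp,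
        LinearMap.baseChange_comp, LinearMap.baseChange_comp, hΨ₀, LinearMap.smul_comp, hg, LinearMap.baseChange_id,
        LinearMap.baseChange_comp, LinearMap.smul_comp, LinearMap.id_comp, LinearMap.comp_smul, ← algebraMap_smul κ t,
        ← smul_add]
      congr 1
      abel
    rw [← LinearMap.det_baseChange, hb, LinearMap.det_smul, LinearMap.det_id, mul_one]
    exact pow_ne_zero _ ht
  · have hA : Adj ∘ₗ T' = LinearMap.det T' • LinearMap.id := by
      conv_lhs => rw [hAdj, ← Matrix.toLin'_toMatrix' T']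
      rw [LinearMap.toMatrix'_toLin', ← Matrix.toLin'_mul, Matrix.adjugate_mul, LinearMap.det_toMatrix', map_smul,
        Matrix.toLin'_one]
    have hπι' : ∀ y, π (ι y) = y := fun y => LinearMap.congr_fun hπι y
    refine LinearMap.ext fun y => ?_
    have h1 := congrArg π (LinearMap.congr_fun hA (ι y))
    simp [hT', hπι'] at h1
    simpa using h1

/-- A map bijective on the fibre is invertible away from a scalar. -/
theorem exists_inverse_away {M : Type u} [AddCommGroup M] [Module R M] [Module.Finite R M] [Module.Projective R M]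
    {N : Type u} [AddCommGroup N] [Module R N] [Module.Finite R N] [Module.Projective R N] (Φ : M →ₗ[R] N)
    (h : Function.Bijective (LinearMap.baseChange κ Φ)) :
    ∃ d : R, algebraMap R κ d ≠ 0 ∧ ∃ Ψ : N →ₗ[R] M, Ψ ∘ₗ Φ = d • LinearMap.id ∧ Φ ∘ₗ Ψ = d • LinearMap.id := by
  obtain ⟨d₁, hd₁, Ψ₁, hΨ₁⟩ := exists_left_inverse_away hfrac Φ h.1
  set W : N →ₗ[R] N := d₁ • LinearMap.id - Φ ∘ₗ Ψ₁ with hW
  have hWΦ : ∀ y, W (Φ y) = 0 := fun y => by
    rw [hW, LinearMap.sub_apply, LinearMap.comp_apply, ← LinearMap.comp_apply Ψ₁ Φ, hΨ₁]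
    simp
  have hW2 : ∀ y, W (W y) = d₁ • W y := fun y => by
    conv_lhs => arg 2; rw [hW, LinearMap.sub_apply, LinearMap.smul_apply, LinearMap.id_apply, LinearMap.comp_apply]
    rw [map_sub, map_smul, hWΦ, sub_zero]
  have hW0 : LinearMap.baseChange κ W = 0 := by
    refine LinearMap.ext fun z => ?_
    obtain ⟨y, rfl⟩ := h.2 z
    rw [← LinearMap.comp_apply, ← LinearMap.baseChange_comp, show W ∘ₗ Φ = 0 from LinearMap.ext hWΦ]
    simp
  obtain ⟨d₂, hd₂, Ψ₂, hΨ₂⟩ := exists_left_inverse_away hfrac (d₁ • LinearMap.id - W : N →ₗ[R] N) (by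
    simp only [LinearMap.baseChange_sub, hW0, sub_zero, LinearMap.baseChange_smul, LinearMap.baseChange_id]
    rw [← algebraMap_smul κ d₁]
    intro a b hab
    refine smul_right_injective (κ ⊗[R] N) hd₁ ?_
    simpa [algebraMap_smul] using hab)
  have hW' : ∀ y, d₂ • W y = 0 := fun y => by
    have := LinearMap.congr_fun hΨ₂ (W y)
    simp only [LinearMap.comp_apply, LinearMap.sub_apply, LinearMap.smul_apply, LinearMap.id_apply, hW2, sub_self,
      map_zero] at this
    exact this.symm
  refine ⟨d₁ * d₂, by rw [map_mul]; exact mul_ne_zero hd₁ hd₂, d₂ • Ψ₁, ?_, ?_⟩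
  · rw [LinearMap.smul_comp, hΨ₁, smul_smul, mul_comm]
  · refine LinearMap.ext fun y => ?_
    have := hW' y
    rw [hW, LinearMap.sub_apply, smul_sub, sub_eq_zero] at this
    simp only [LinearMap.comp_apply, LinearMap.smul_apply, LinearMap.id_apply, map_smul]
    rw [LinearMap.comp_apply] at this
    rw [← this, LinearMap.smul_apply, LinearMap.id_apply, smul_smul, mul_comm]

end lift

end away

section split

variable {S : Type u} [CommRing S] {A : Type u} [Ring A] [Algebra S A] [IsAzumaya S A]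

/-- A finite free commutative subalgebra of rank `r` over which the algebra is free of rank `r` splits it. -/
theorem nonempty_algEquiv_end [Nontrivial S] {r : ℕ} (hr : 0 < r) {E : Type u} [CommRing E] [Algebra S E] [Module.Free S E]
    [Module.Finite S E] (hE : Module.finrank S E = r) (u : E →ₐ[S] A) (τ : A →ₗ[S] E) (hτ : ∀ e, τ (u e) = e)
    [Module E A] (hmod : ∀ (e : E) (a : A), e • a = a * u e) (b : Module.Basis (Fin r) E A) :
    Nonempty (E ⊗[S] A ≃ₐ[E] Module.End E A) := by
  classical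
  haveI : IsScalarTower S E A := ⟨fun c e a => by rw [hmod, hmod, map_smul, mul_smul_comm]⟩
  haveI : SMulCommClass E S A := ⟨fun e c a => by rw [hmod, hmod, smul_mul_assoc]⟩
  haveI : Module.Free E A := Module.Free.of_basis b
  haveI : Module.Finite E A := Module.Finite.of_basis b
  haveI : Module.Free S A := Module.Free.of_basis ((Module.Free.chooseBasis S E).smulTower b)
  have hA : Module.finrank S A = r * r := by
    rw [Module.finrank_eq_card_basis ((Module.finBasisOfFinrankEq S E hE).smulTower b)]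
    simp
  let f : A →ₐ[S] Module.End E A :=
    { toFun := fun a =>
        { toFun := fun x => a * x
          map_add' := mul_add a
          map_smul' := fun l x => by simp only [hmod, RingHom.id_apply, mul_assoc] }
      map_one' := LinearMap.ext fun x => one_mul x
      map_mul' := fun a b => LinearMap.ext fun x => mul_assoc a b x
      map_zero' := LinearMap.ext fun x => zero_mul x
      map_add' := fun a b => LinearMap.ext fun x => add_mul a b x
      commutes' := fun c => LinearMap.ext fun x => (Algebra.smul_def c x).symm }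
  let ρ : (E ⊗[S] A) →ₐ[E] Module.End E A :=
    Algebra.TensorProduct.lift (Algebra.ofId E (Module.End E A)) f fun l a => Algebra.commutes l (f a)
  have hρ : ∀ (e : E) (a x : A), ρ (e ⊗ₜ[S] a) x = a * x * u e := fun e a x => by
    show e • (a * x) = _
    rw [hmod]
  let res : Module.End E A →ₗ[S] Module.End S A :=
    { toFun := fun F => F.restrictScalars S, map_add' := fun _ _ => rfl, map_smul' := fun _ _ => rfl }
  let back : A ⊗[S] Aᵐᵒᵖ →ₗ[S] E ⊗[S] A :=
    (TensorProduct.comm S A E).toLinearMap ∘ₗ LinearMap.lTensor A (τ ∘ₗ (opLinearEquiv S).symm.toLinearMap)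
  let j : Module.End S A ≃ₗ[S] A ⊗[S] Aᵐᵒᵖ :=
    (LinearEquiv.ofBijective (AlgHom.mulLeftRight S A).toLinearMap IsAzumaya.bij).symm
  let g : Module.End E A →ₗ[S] E ⊗[S] A := back ∘ₗ j.toLinearMap ∘ₗ res
  have hgρ : ∀ z, g (ρ z) = z := fun z => by
    induction z using TensorProduct.induction_on with
    | zero => simp
    | tmul e a =>
      have h1 : res (ρ (e ⊗ₜ[S] a)) = AlgHom.mulLeftRight S A (a ⊗ₜ[S] op (u e)) := LinearMap.ext fun x => by
        rw [AlgHom.mulLeftRight_apply]; exact hρ e a x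
      show back (j (res (ρ (e ⊗ₜ[S] a)))) = _
      rw [h1, show j (AlgHom.mulLeftRight S A (a ⊗ₜ[S] op (u e))) = a ⊗ₜ[S] op (u e) from
        LinearEquiv.symm_apply_apply _ _]
      simp [back, hτ]
    | add p q hp hq => rw [map_add, map_add, hp, hq]
  haveI : Module.Free S (Module.End E A) := Module.Free.trans (R := S) (S := E) (M := Module.End E A)
  haveI : Module.Finite S (Module.End E A) := Module.Finite.trans E (Module.End E A)
  have hdim : Module.finrank S (E ⊗[S] A) = Module.finrank S (Module.End E A) := by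
    haveI : Nontrivial E := Module.nontrivial_of_finrank_pos (R := S) (hE ▸ hr)
    rw [Module.finrank_tensorProduct, hA, hE, ← Module.finrank_mul_finrank S E (Module.End E A),
      Module.finrank_linearMap, Module.finrank_eq_card_basis b, hE]
    simp
  obtain ⟨σ⟩ := FiniteDimensional.nonempty_linearEquiv_of_finrank_eq hdim
  have hg : Function.Injective g := by
    have hs : Function.Surjective (σ.toLinearMap ∘ₗ g) := σ.surjective.comp fun z => ⟨ρ z, hgρ z⟩
    exact Function.Injective.of_comp (OrzechProperty.injective_of_surjective_endomorphism _ hs)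
  refine ⟨AlgEquiv.ofBijective ρ ⟨Function.LeftInverse.injective hgρ, fun F => ⟨g F, hg ?_⟩⟩⟩
  rw [hgρ]

/-- Data splitting an Azumaya algebra by a finite étale algebra. -/
theorem exists_split_of_data [Nontrivial S] {r : ℕ} (hr : 0 < r) (ξ : A) (c : Fin r → S)
    (hrel : ξ ^ r = ∑ j, c j • ξ ^ (j : ℕ)) (τ : A →ₗ[S] (Fin r → S)) (hτ : ∀ j : Fin r, τ (ξ ^ (j : ℕ)) = Pi.single j 1)
    (hunit : ∃ v : Fin r → S,
      τ (Polynomial.aeval ξ (Polynomial.derivative ((Polynomial.X : S[X]) ^ r - ∑ j : Fin r, Polynomial.C (c j) * Polynomial.X ^ (j : ℕ))) *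
        ∑ j, v j • ξ ^ (j : ℕ)) = Pi.single ⟨0, hr⟩ 1)
    (b : Fin r → A) (hb : Function.Bijective fun v : Fin r → Fin r → S => ∑ i, ∑ j, v i j • (b i * ξ ^ (j : ℕ))) :
    ∃ (E : Type u) (_ : CommRing E) (_ : Algebra S E), Algebra.Etale S E ∧ Module.Finite S E ∧ Module.Free S E ∧
      Module.finrank S E = r ∧ Module.FaithfullyFlat S E ∧
      ∃ (u : E →ₐ[S] A) (τ' : A →ₗ[S] E), (∀ e, τ' (u e) = e) ∧
        Nonempty (E ⊗[S] A ≃ₐ[E] Matrix (Fin r) (Fin r) E) := by
  classical
  set P : S[X] := Polynomial.X ^ r - ∑ j : Fin r, Polynomial.C (c j) * Polynomial.X ^ (j : ℕ) with hP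
  have hsum : (∑ j : Fin r, Polynomial.C (c j) * Polynomial.X ^ (j : ℕ)).degree < (r : WithBot ℕ) :=
    Polynomial.degree_sum_fin_lt c
  have hmonic : P.Monic := Polynomial.monic_X_pow_sub hsum
  have hdeg : P.natDegree = r := Polynomial.natDegree_eq_of_degree_eq_some
    ((Polynomial.degree_sub_eq_left_of_degree_lt (by rw [Polynomial.degree_X_pow]; exact hsum)).trans
      (Polynomial.degree_X_pow r))
  have hPξ : Polynomial.aeval ξ P = 0 := by
    simp only [hP, map_sub, map_pow, Polynomial.aeval_X, map_sum, map_mul, Polynomial.aeval_C, ← Algebra.smul_def]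
    rw [hrel, sub_self]
  let u : AdjoinRoot P →ₐ[S] A := Ideal.Quotient.liftₐ (Ideal.span {P}) (Polynomial.aeval ξ) fun a ha => by
    obtain ⟨q, rfl⟩ := Ideal.mem_span_singleton.1 ha
    rw [map_mul, hPξ, zero_mul]
  have humk : ∀ q, u (AdjoinRoot.mk P q) = Polynomial.aeval ξ q := fun q => rfl
  let pb := (AdjoinRoot.powerBasis' hmonic)
  let B : Module.Basis (Fin r) S (AdjoinRoot P) := pb.basis.reindex (finCongr hdeg)
  have hB : ∀ j, B j = AdjoinRoot.root P ^ (j : ℕ) := fun j => by
    simp [B, pb]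
  have huB : ∀ j, u (B j) = ξ ^ (j : ℕ) := fun j => by
    rw [hB, ← AdjoinRoot.mk_X, ← map_pow, humk, map_pow, Polynomial.aeval_X]
  haveI : Module.Free S (AdjoinRoot P) := Module.Free.of_basis B
  haveI : Module.Finite S (AdjoinRoot P) := Module.Finite.of_basis B
  have hfin : Module.finrank S (AdjoinRoot P) = r := by rw [Module.finrank_eq_card_basis B, Fintype.card_fin]
  let τ' : A →ₗ[S] AdjoinRoot P := B.equivFun.symm.toLinearMap ∘ₗ τ
  have hτ' : ∀ e, τ' (u e) = e := by
    have : τ' ∘ₗ u.toLinearMap = LinearMap.id := B.ext fun j => by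
      simp only [τ', LinearMap.comp_apply, AlgHom.toLinearMap_apply, huB, hτ, LinearEquiv.coe_coe, LinearMap.id_apply,
        Module.Basis.equivFun_symm_apply]
      simp [Pi.single_apply]
    exact fun e => LinearMap.congr_fun this e
  obtain ⟨v, hv⟩ := hunit
  have hz : AdjoinRoot.mk P (Polynomial.derivative P) * B.equivFun.symm v = 1 := by
    rw [← hτ' (_ * _), map_mul, humk]
    have h1 : u (B.equivFun.symm v) = ∑ j, v j • ξ ^ (j : ℕ) := by
      simp [Module.Basis.equivFun_symm_apply, huB]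
    rw [h1]
    simp only [τ', LinearMap.comp_apply]
    rw [hv]
    simp [Module.Basis.equivFun_symm_apply, Pi.single_apply, hB]
  obtain ⟨q, hq⟩ := AdjoinRoot.mk_surjective (B.equivFun.symm v)
  rw [← hq, ← map_mul, ← map_one (AdjoinRoot.mk P), AdjoinRoot.mk_eq_mk] at hz
  obtain ⟨w, hw⟩ := hz
  let Q : StandardEtalePair S :=
    { f := P, monic_f := hmonic, g := 1, cond := ⟨q, -w, 0, by rw [pow_zero]; linear_combination hw⟩ }
  haveI : IsLocalization.Away (1 : AdjoinRoot Q.f) (Localization.Away (AdjoinRoot.mk Q.f Q.g)) := by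
    have : AdjoinRoot.mk Q.f Q.g = (1 : AdjoinRoot Q.f) := map_one _
    rw [this]; infer_instance
  haveI hEt : Algebra.Etale S (AdjoinRoot P) := Algebra.Etale.of_equiv (Q.equivAwayAdjoinRoot.trans
    ((IsLocalization.atOne (AdjoinRoot Q.f)
      (Localization.Away (AdjoinRoot.mk Q.f Q.g))).symm.restrictScalars S))
  haveI : Nonempty (Fin r) := ⟨⟨0, hr⟩⟩
  haveI : Nontrivial (AdjoinRoot P) := B.repr.toEquiv.nontrivial
  letI : Module (AdjoinRoot P) A := Module.compHom A (u.toOpposite fun a b => by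
    show u a * u b = u b * u a
    rw [← map_mul, ← map_mul, mul_comm]).toRingHom
  have hmod : ∀ (e : AdjoinRoot P) (a : A), e • a = a * u e := fun e a => rfl
  let Φ : (Fin r → AdjoinRoot P) →ₗ[AdjoinRoot P] A := Fintype.linearCombination (AdjoinRoot P) b
  have hΦ : Function.Bijective Φ := by
    let e : (Fin r → Fin r → S) ≃ₗ[S] (Fin r → AdjoinRoot P) := LinearEquiv.piCongrRight fun _ => B.equivFun.symm
    have : (Φ : (Fin r → AdjoinRoot P) → A) ∘ e = fun v : Fin r → Fin r → S => ∑ i, ∑ j, v i j • (b i * ξ ^ (j : ℕ)) := by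
      funext v
      simp only [Function.comp_apply, Φ, Fintype.linearCombination_apply]
      refine Finset.sum_congr rfl fun i _ => ?_
      rw [hmod, show e v i = B.equivFun.symm (v i) from rfl, Module.Basis.equivFun_symm_apply, map_sum, Finset.mul_sum]
      simp [map_smul, huB]
    exact (Function.Bijective.of_comp_iff _ e.bijective).1 (this ▸ hb)
  let bA : Module.Basis (Fin r) (AdjoinRoot P) A := Module.Basis.ofEquivFun (LinearEquiv.ofBijective Φ hΦ).symm
  obtain ⟨θ⟩ := nonempty_algEquiv_end hr hfin u τ' hτ' hmod bA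
  exact ⟨AdjoinRoot P, inferInstance, inferInstance, hEt, inferInstance, inferInstance, hfin, inferInstance,
    u, τ', hτ', ⟨θ.trans (algEquivMatrix bA)⟩⟩

end split

end Groth.Agent.AzSplitLib
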