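import Groth.Agent.AzSplitLib.Field

/-!
# Freeness over a maximal étale subalgebra, regular elements
-/

set_option autoImplicit false
set_option backward.isDefEq.respectTransparency false

universe u v

open scoped TensorProduct Polynomial

namespace Groth.Agent.AzSplitLib

variable {k : Type u} [Field k]

/-- The rank of a linear map is unchanged by extending the field. -/
theorem finrank_range_baseChange (K : Type u) [Field K] [Algebra k K] {V : Type v} [AddCommGroup V] [Module k V]
    [FiniteDimensional k V] (f : V →ₗ[k] V) :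
    Module.finrank K (LinearMap.range (LinearMap.baseChange K f)) = Module.finrank k (LinearMap.range f) := by
  have h : LinearMap.range (LinearMap.baseChange K f) =
      LinearMap.range (LinearMap.baseChange K (LinearMap.range f).subtype) := by
    conv_lhs => rw [show f = (LinearMap.range f).subtype ∘ₗ f.rangeRestrict from rfl]
    rw [LinearMap.baseChange_comp, LinearMap.range_comp_of_range_eq_top]
    exact LinearMap.range_eq_top.2 (LinearMap.baseChange_surjective K f.surjective_rangeRestrict)
  rw [h, LinearMap.finrank_range_of_inj, Module.finrank_baseChange]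
  exact Module.Flat.lTensor_preserves_injective_linearMap _ Subtype.val_injective

/-- The rank of a map applied componentwise. -/
theorem finrank_range_compLeft {K : Type u} [Field K] {r : ℕ} {W : Type v} [AddCommGroup W] [Module K W]
    [FiniteDimensional K W] (f : W →ₗ[K] W) :
    Module.finrank K (LinearMap.range (f.compLeft (Fin r))) = r * Module.finrank K (LinearMap.range f) := by
  have h : LinearMap.range (f.compLeft (Fin r)) = LinearMap.range ((LinearMap.range f).subtype.compLeft (Fin r)) := by
    refine le_antisymm ?_ ?_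
    · rintro _ ⟨g, rfl⟩
      exact ⟨fun i => ⟨f (g i), g i, rfl⟩, rfl⟩
    · rintro _ ⟨g, rfl⟩
      choose w hw using fun i => (g i).2
      exact ⟨w, funext hw⟩
  rw [h, LinearMap.finrank_range_of_inj, Module.finrank_pi_fintype]
  · simp
  · exact fun a b hab => funext fun i => Subtype.ext (congrFun hab i)

variable {C : Type v} [Ring C] [Algebra k C] [Algebra.IsCentral k C] [IsSimpleRing C] [FiniteDimensional k C] {r : ℕ}
  {L : Type u} [CommRing L] [Algebra k L] [FiniteDimensional k L] [IsReduced (AlgebraicClosure k ⊗[k] L)]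

/-- Right multiplication by an element of a maximal étale subalgebra. -/
theorem finrank_range_mulRight (hr : Module.finrank k C = r ^ 2) (hL : Module.finrank k L = r) (ι : L →ₐ[k] C)
    (hι : Function.Injective ι) (l : L) :
    Module.finrank k (LinearMap.range (LinearMap.mulRight k (ι l))) =
      r * Module.finrank k (LinearMap.range (LinearMap.mulLeft k l)) := by
  classical
  obtain ⟨ψ⟩ := exists_splitting k C r hr
  obtain ⟨φ, χ, hφ⟩ := exists_diag_of_subalgebra ψ hL ι hι
  rw [← finrank_range_baseChange (AlgebraicClosure k) (LinearMap.mulRight k (ι l)),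
    ← finrank_range_baseChange (AlgebraicClosure k) (LinearMap.mulLeft k l)]
  set d := χ (1 ⊗ₜ[k] l) with hd
  have hd' : φ (1 ⊗ₜ[k] ι l) = Matrix.diagonal d := by
    rw [hd, ← hφ]; rfl
  have h1 : LinearMap.baseChange (AlgebraicClosure k) (LinearMap.mulRight k (ι l)) =
      LinearMap.mulRight (AlgebraicClosure k) (1 ⊗ₜ[k] ι l) :=
    TensorProduct.AlgebraTensorModule.ext fun a z => by simp
  have h2 : LinearMap.baseChange (AlgebraicClosure k) (LinearMap.mulLeft k l) =
      LinearMap.mulLeft (AlgebraicClosure k) (1 ⊗ₜ[k] l) :=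
    TensorProduct.AlgebraTensorModule.ext fun a z => by simp
  rw [h1, h2]
  have h3 : (LinearMap.mulLeft (AlgebraicClosure k) d).compLeft (Fin r) ∘ₗ
      ((φ.toLinearEquiv.trans (Matrix.ofLinearEquiv (AlgebraicClosure k)).symm) : _ ≃ₗ[AlgebraicClosure k]
        (Fin r → Fin r → AlgebraicClosure k)).toLinearMap =
      ((φ.toLinearEquiv.trans (Matrix.ofLinearEquiv (AlgebraicClosure k)).symm) : _ ≃ₗ[AlgebraicClosure k]
        (Fin r → Fin r → AlgebraicClosure k)).toLinearMap ∘ₗ
        LinearMap.mulRight (AlgebraicClosure k) (1 ⊗ₜ[k] ι l) := by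
    refine LinearMap.ext fun z => funext fun i => funext fun j => ?_
    show d j * φ z i j = φ (z * (1 ⊗ₜ[k] ι l)) i j
    rw [map_mul, hd', Matrix.mul_diagonal, mul_comm]
  have h4 := congrArg LinearMap.range h3
  rw [LinearMap.range_comp_of_range_eq_top _ (LinearEquiv.range _), LinearMap.range_comp] at h4
  rw [← LinearEquiv.finrank_map_eq (φ.toLinearEquiv.trans (Matrix.ofLinearEquiv (AlgebraicClosure k)).symm), ← h4,
    finrank_range_compLeft]
  congr 1
  have h5 : LinearMap.mulLeft (AlgebraicClosure k) d ∘ₗ χ.toLinearEquiv.toLinearMap =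
      χ.toLinearEquiv.toLinearMap ∘ₗ LinearMap.mulLeft (AlgebraicClosure k) (1 ⊗ₜ[k] l) :=
    LinearMap.ext fun z => (map_mul χ _ z).symm
  have h6 := congrArg LinearMap.range h5
  rw [LinearMap.range_comp_of_range_eq_top _ (LinearEquiv.range _), LinearMap.range_comp] at h6
  rw [h6, LinearEquiv.finrank_map_eq]

/-- The algebra is free over a maximal étale subalgebra. -/
theorem free_right (hr : Module.finrank k C = r ^ 2) (hL : Module.finrank k L = r) (ι : L →ₐ[k] C)
    (hι : Function.Injective ι) [Module L C] (hmod : ∀ (l : L) (c : C), l • c = c * ι l) :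
    Module.Free L C ∧ Module.finrank L C = r := by
  classical
  have hr0 : 0 < r := pos_of_finrank k C r hr
  haveI : IsScalarTower k L C := ⟨fun a l c => by rw [hmod, hmod, map_smul, mul_smul_comm]⟩
  haveI : Module.Finite L C := Module.Finite.of_restrictScalars_finite k L C
  haveI : IsReduced L := isReduced_of_injective
    (Algebra.TensorProduct.includeRight : L →ₐ[k] AlgebraicClosure k ⊗[k] L)
    (Algebra.TensorProduct.includeRight_injective (algebraMap k (AlgebraicClosure k)).injective)
  haveI : IsArtinianRing L := isArtinian_of_tower k inferInstance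
  haveI : IsSemisimpleRing L := IsArtinianRing.isSemisimpleRing_of_isReduced L
  haveI : Module.Projective L C := Module.projective_of_isSemisimpleRing L C
  haveI : Module.Flat L C := inferInstance
  have hrk : ∀ P : MaximalSpectrum L, Module.finrank (L ⧸ P.1) ((L ⧸ P.1) ⊗[L] C) = r := fun P => by
    haveI := P.2
    letI := Ideal.Quotient.field P.1
    have hidem : IsIdempotentElem P.1 := by
      obtain ⟨e, he⟩ := IsSemisimpleRing.ideal_eq_span_idempotent P.1
      rw [IsIdempotentElem, he.2, Ideal.span_singleton_mul_span_singleton, he.1.eq]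
    obtain ⟨e, he⟩ := IsSemisimpleRing.ideal_eq_span_idempotent P.1
    have hP : (P.1.restrictScalars k) = LinearMap.range (LinearMap.mulLeft k e) := by
      ext x
      rw [Submodule.restrictScalars_mem, he.2, Ideal.mem_span_singleton', LinearMap.mem_range]
      exact exists_congr fun a => by rw [LinearMap.mulLeft_apply, mul_comm]
    have hS : ((P.1 • ⊤ : Submodule L C).restrictScalars k) = LinearMap.range (LinearMap.mulRight k (ι e)) := by
      ext x
      rw [Submodule.restrictScalars_mem, he.2, Submodule.ideal_span_singleton_smul, Submodule.mem_smul_pointwise_iff_exists,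
        LinearMap.mem_range]
      simp [hmod]
    have hq1 : Module.finrank k (L ⧸ P.1) + Module.finrank k (LinearMap.range (LinearMap.mulLeft k e)) = r := by
      rw [← hP, ← hL]
      exact (P.1.restrictScalars k).finrank_quotient_add_finrank
    have hq2 : Module.finrank k ((L ⧸ P.1) ⊗[L] C) +
        Module.finrank k (LinearMap.range (LinearMap.mulRight k (ι e))) = r ^ 2 := by
      rw [← hS, ← hr, ((TensorProduct.quotTensorEquivQuotSMul C P.1).restrictScalars k).finrank_eq]
      exact ((P.1 • ⊤ : Submodule L C).restrictScalars k).finrank_quotient_add_finrank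
    rw [finrank_range_mulRight hr hL ι hι e] at hq2
    have hf : 0 < Module.finrank k (L ⧸ P.1) := Module.finrank_pos
    have htower := Module.finrank_mul_finrank k (L ⧸ P.1) ((L ⧸ P.1) ⊗[L] C)
    refine Nat.eq_of_mul_eq_mul_left hf ?_
    rw [htower, mul_comm]
    nlinarith
  haveI : Finite (MaximalSpectrum L) := inferInstance
  have hfree : Module.Free L C := Module.free_of_flat_of_finrank_eq L C r hrk
  refine ⟨hfree, ?_⟩
  obtain ⟨b⟩ := Module.nonempty_basis_of_flat_of_finrank_eq L C r hrk
  haveI : Nontrivial L := Module.nontrivial_of_finrank_pos (R := k) (hL ▸ hr0)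
  rw [Module.finrank_eq_card_basis b, Fintype.card_fin]

section regular

omit [FiniteDimensional k L] [IsReduced (AlgebraicClosure k ⊗[k] L)] [CommRing L] [Algebra k L]

/-- The minimal polynomial of a regular element, and its centraliser. -/
theorem regular_facts (hr : Module.finrank k C = r ^ 2) (x : C)
    (hsep : Algebra.IsSeparable k (Algebra.adjoin k ({x} : Set C)))
    (hrk : Module.finrank k (Algebra.adjoin k ({x} : Set C)) = r) :
    (minpoly k x).Separable ∧ (minpoly k x).natDegree = r ∧ LinearIndependent k (fun i : Fin r => x ^ (i : ℕ)) ∧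
      ∀ y : C, y * x = x * y → y ∈ Submodule.span k (Set.range fun i : Fin r => x ^ (i : ℕ)) := by
  classical
  have hint : IsIntegral k x := Algebra.IsIntegral.isIntegral x
  set m := minpoly k x with hm
  let ι : AdjoinRoot m →ₐ[k] C := Ideal.Quotient.liftₐ (Ideal.span {m}) (Polynomial.aeval x) fun a ha => by
    obtain ⟨b, rfl⟩ := Ideal.mem_span_singleton.1 ha
    rw [map_mul, minpoly.aeval, zero_mul]
  have hιmk : ∀ q, ι (AdjoinRoot.mk m q) = Polynomial.aeval x q := fun q => rfl
  have hι : Function.Injective ι := by
    refine (injective_iff_map_eq_zero ι).2 fun z hz => ?_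
    obtain ⟨q, rfl⟩ := AdjoinRoot.mk_surjective z
    rw [AdjoinRoot.mk_eq_zero]
    refine minpoly.dvd k x ?_
    rwa [hιmk] at hz
  have hrange : ι.range = Algebra.adjoin k ({x} : Set C) := by
    rw [Algebra.adjoin_singleton_eq_range_aeval]
    ext z
    simp only [AlgHom.mem_range]
    constructor
    · rintro ⟨w, rfl⟩
      obtain ⟨q, rfl⟩ := AdjoinRoot.mk_surjective w
      exact ⟨q, (hιmk q).symm⟩
    · rintro ⟨q, rfl⟩
      exact ⟨AdjoinRoot.mk m q, hιmk q⟩
  let e : AdjoinRoot m ≃ₐ[k] Algebra.adjoin k ({x} : Set C) :=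
    (AlgEquiv.ofInjective ι hι).trans (Subalgebra.equivOfEq _ _ hrange)
  haveI := hsep
  haveI : Algebra.IsSeparable k (AdjoinRoot m) := AlgEquiv.Algebra.isSeparable e.symm
  have hdeg : m.natDegree = r := by
    rw [← hrk, ← e.toLinearEquiv.finrank_eq, (AdjoinRoot.powerBasis (minpoly.ne_zero hint)).finrank,
      AdjoinRoot.powerBasis_dim]
  have hmsep : m.Separable := by
    have := Algebra.IsSeparable.isSeparable k (⟨x, Algebra.self_mem_adjoin_singleton k x⟩ : Algebra.adjoin k ({x} : Set C))
    have h1 : minpoly k (⟨x, Algebra.self_mem_adjoin_singleton k x⟩ : Algebra.adjoin k ({x} : Set C)) = m :=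
      (minpoly.algHom_eq (Algebra.adjoin k ({x} : Set C)).val Subtype.val_injective _).symm
    rwa [IsSeparable, h1] at this
  haveI : Module.Finite k (AdjoinRoot m) := (AdjoinRoot.powerBasis (minpoly.ne_zero hint)).finite
  haveI := CSADescent.formallyUnramified_of_isSeparable (k := k) (Z := AdjoinRoot m)
  haveI : IsReduced (AlgebraicClosure k ⊗[k] AdjoinRoot m) := Algebra.FormallyUnramified.isReduced_of_field (AlgebraicClosure k) _
  have hL : Module.finrank k (AdjoinRoot m) = r := by rw [e.toLinearEquiv.finrank_eq]; exact hrk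
  have hli : LinearIndependent k (fun i : Fin r => x ^ (i : ℕ)) :=
    hdeg ▸ (linearIndependent_pow (K := k) x)
  refine ⟨hmsep, hdeg, hli, fun y hy => ?_⟩
  obtain ⟨l, hl⟩ := mem_range_of_commute hr hL ι hι y fun l => by
    obtain ⟨q, rfl⟩ := AdjoinRoot.mk_surjective l
    rw [hιmk]
    have hc : Commute y x := hy
    induction q using Polynomial.induction_on' with
    | add p q hp hq => rw [map_add, mul_add, add_mul, hp, hq]
    | monomial n a =>
      rw [Polynomial.aeval_monomial, ← mul_assoc, ← Algebra.commutes a y, mul_assoc, (hc.pow_right n).eq, mul_assoc]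
  obtain ⟨q, rfl⟩ := AdjoinRoot.mk_surjective l
  rw [← hl]
  rw [hιmk]
  rw [← Polynomial.modByMonic_add_div q m, map_add, map_mul, minpoly.aeval, zero_mul, add_zero]
  rcases Nat.eq_zero_or_pos r with h0 | h0
  · exact absurd h0 (pos_of_finrank k C r hr).ne'
  rw [Polynomial.aeval_eq_sum_range' (n := r) (hdeg ▸ Polynomial.natDegree_modByMonic_lt q (minpoly.monic hint)
    fun h => by rw [h, Polynomial.natDegree_one] at hdeg; omega), ← Fin.sum_univ_eq_sum_range
    (fun i => (q %ₘ m).coeff i • x ^ i)]
  exact Submodule.sum_mem _ fun i _ => Submodule.smul_mem _ _ (Submodule.subset_span ⟨i, rfl⟩)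

/-- A finite central simple algebra is a matrix algebra. -/
theorem exists_algEquiv_matrix_of_finite [Finite k] (hr : Module.finrank k C = r ^ 2) :
    Nonempty (C ≃ₐ[k] Matrix (Fin r) (Fin r) k) := by
  haveI : IsArtinianRing C := IsArtinianRing.of_finite k C
  obtain ⟨m, hm, D, _, _, _, ⟨e⟩⟩ := IsSimpleRing.exists_algEquiv_matrix_divisionRing_finite k C
  haveI := Algebra.IsCentral.of_algEquiv k _ _ e
  haveI : Finite D := Module.finite_of_finite k
  letI : Field D := littleWedderburn D
  have hD : ∀ x : D, ∃ a : k, algebraMap k D a = x := fun x => by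
    have h1 : (Matrix.scalar (Fin m) x) ∈ Subalgebra.center k (Matrix (Fin m) (Fin m) D) := by
      rw [Subalgebra.mem_center_iff]
      intro M
      exact (Matrix.scalar_commute x (fun r => mul_comm x r) M).eq.symm
    obtain ⟨a, ha⟩ := Algebra.IsCentral.mem_center_iff k |>.1 h1
    refine ⟨a, ?_⟩
    have := congr_fun (congr_fun ha ⟨0, Nat.pos_of_ne_zero hm.out⟩) ⟨0, Nat.pos_of_ne_zero hm.out⟩
    simpa [Matrix.algebraMap_matrix_apply] using this.symm
  let f : k ≃ₐ[k] D := AlgEquiv.ofBijective (Algebra.ofId k D) ⟨(algebraMap k D).injective, hD⟩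
  let e' := e.trans f.symm.mapMatrix
  have h := e'.toLinearEquiv.finrank_eq
  rw [hr, Module.finrank_matrix, Fintype.card_fin, Module.finrank_self, mul_one, sq] at h
  obtain rfl : m = r := (Nat.mul_self_inj.1 h).symm
  exact ⟨e'⟩

/-- A central simple algebra has an element with separable characteristic polynomial over the closure. -/
theorem exists_separable_charpoly (hr : Module.finrank k C = r ^ 2) :
    ∃ (ψ : (AlgebraicClosure k ⊗[k] C) ≃ₐ[AlgebraicClosure k] Matrix (Fin r) (Fin r) (AlgebraicClosure k)) (x : C),
      (ψ (1 ⊗ₜ[k] x)).charpoly.Separable := by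
  classical
  obtain ⟨ψ⟩ := exists_splitting k C r hr
  rcases finite_or_infinite k with hk | hk
  · obtain ⟨e⟩ := exists_algEquiv_matrix_of_finite hr
    obtain ⟨p, hp⟩ := CharP.exists k
    haveI : NeZero r := ⟨(pos_of_finrank k C r hr).ne'⟩
    haveI : Fact p.Prime := ⟨CharP.char_is_prime k p⟩
    let E := FiniteField.Extension k p r
    have hE : Module.finrank k E = r := FiniteField.finrank_extension k p r
    obtain ⟨pb⟩ : Nonempty (PowerBasis k E) := ⟨Field.powerBasisOfFiniteOfSeparable k E⟩
    have hdim : pb.dim = r := by rw [← pb.finrank, hE]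
    let φ : (AlgebraicClosure k ⊗[k] C) ≃ₐ[AlgebraicClosure k] Matrix (Fin r) (Fin r) (AlgebraicClosure k) :=
      (Algebra.TensorProduct.congr AlgEquiv.refl e).trans
        { (matrixEquivTensor (Fin r) k (AlgebraicClosure k)).symm with
          commutes' := fun a => by
            ext i j
            simp [matrixEquivTensor, Algebra.TensorProduct.algebraMap_apply, Matrix.algebraMap_matrix_apply,
              Matrix.one_apply] }
    refine ⟨φ, e.symm (Matrix.reindex (finCongr hdim) (finCongr hdim) (Algebra.leftMulMatrix pb.basis pb.gen)), ?_⟩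
    have hφ : φ (1 ⊗ₜ[k] e.symm (Matrix.reindex (finCongr hdim) (finCongr hdim) (Algebra.leftMulMatrix pb.basis pb.gen))) =
        (Matrix.reindex (finCongr hdim) (finCongr hdim) (Algebra.leftMulMatrix pb.basis pb.gen)).map
          (algebraMap k (AlgebraicClosure k)) := by
      ext i j
      simp [φ, matrixEquivTensor, Algebra.algebraMap_eq_smul_one]
    rw [hφ, Matrix.charpoly_map, Matrix.charpoly_reindex, charpoly_leftMulMatrix]
    exact Polynomial.Separable.map (Algebra.IsSeparable.isSeparable k pb.gen)
  · let bC := Module.finBasis k C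
    let G : Matrix (Fin r) (Fin r) (MvPolynomial (Fin (Module.finrank k C)) (AlgebraicClosure k)) :=
      ∑ l, (MvPolynomial.X l : MvPolynomial (Fin (Module.finrank k C)) (AlgebraicClosure k)) •
        (ψ (1 ⊗ₜ[k] bC l)).map MvPolynomial.C
    let P := (Polynomial.aeval G G.charpoly.derivative).det
    have hG : ∀ z : Fin (Module.finrank k C) → AlgebraicClosure k,
        G.map (MvPolynomial.eval z) = ψ (∑ l, z l • ((1 : AlgebraicClosure k) ⊗ₜ[k] bC l)) := fun z => by
      ext i j
      simp [G, Matrix.sum_apply, map_sum]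
    have hP : ∀ z : Fin (Module.finrank k C) → AlgebraicClosure k, MvPolynomial.eval z P =
        (Polynomial.aeval (G.map (MvPolynomial.eval z)) (G.map (MvPolynomial.eval z)).charpoly.derivative).det := fun z => by
      rw [RingHom.map_det, Matrix.charpoly_map, Polynomial.derivative_map]
      congr 1
      rw [Polynomial.aeval_def, Polynomial.aeval_def, Polynomial.eval₂_map, Polynomial.hom_eval₂]
      congr 1
      refine RingHom.ext fun a => ?_
      ext i j
      by_cases h : i = j
      · subst h; simp [Matrix.algebraMap_matrix_apply]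
      · simp [Matrix.algebraMap_matrix_apply, h]
    let d : Fin r → AlgebraicClosure k := fun i => Infinite.natEmbedding (AlgebraicClosure k) i
    have hd : Function.Injective d := fun i j h => Fin.ext ((Infinite.natEmbedding _).injective h)
    have hP0 : P ≠ 0 := by
      intro h0
      let B := Algebra.TensorProduct.basis (AlgebraicClosure k) bC
      have hz := congrArg (MvPolynomial.eval fun l => B.repr (ψ.symm (Matrix.diagonal d)) l) h0
      have hsum : ∑ l, B.repr (ψ.symm (Matrix.diagonal d)) l • ((1 : AlgebraicClosure k) ⊗ₜ[k] bC l) =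
          ψ.symm (Matrix.diagonal d) := by
        conv_rhs => rw [← B.sum_repr (ψ.symm (Matrix.diagonal d))]
        simp [B]
      rw [hP, hG, hsum, ψ.apply_symm_apply, map_zero, Matrix.charpoly_diagonal,
        show Matrix.diagonal d = Matrix.diagonalAlgHom (AlgebraicClosure k) d from rfl,
        Polynomial.aeval_algHom_apply] at hz
      change (Matrix.diagonal _).det = 0 at hz
      rw [Matrix.det_diagonal, Finset.prod_eq_zero_iff] at hz
      obtain ⟨i, -, hi⟩ := hz
      rw [← Pi.evalAlgHom_apply (AlgebraicClosure k) (fun _ : Fin r => AlgebraicClosure k) i (Polynomial.aeval d _),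
        ← Polynomial.aeval_algHom_apply] at hi
      refine Polynomial.Separable.aeval_derivative_ne_zero (Polynomial.separable_prod_X_sub_C_iff.2 hd) ?_ hi
      simp [Polynomial.eval_prod, Finset.prod_eq_zero_iff]
      exact ⟨i, by simp⟩
    obtain ⟨z, hz, hne⟩ : ∃ z : Fin (Module.finrank k C) → AlgebraicClosure k,
        (∀ l, z l ∈ Set.range (algebraMap k (AlgebraicClosure k))) ∧ MvPolynomial.eval z P ≠ 0 := by
      by_contra hcon
      push Not at hcon
      refine hP0 (MvPolynomial.funext_set (fun _ => Set.range (algebraMap k (AlgebraicClosure k)))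
        (fun _ => Set.infinite_range_of_injective (algebraMap k (AlgebraicClosure k)).injective) fun z hz => ?_)
      rw [map_zero]
      exact hcon z fun l => hz l trivial
    choose a ha using hz
    refine ⟨ψ, ∑ l, a l • bC l, ?_⟩
    rw [hP, hG] at hne
    have hx : ∑ l, z l • ((1 : AlgebraicClosure k) ⊗ₜ[k] bC l) = (1 : AlgebraicClosure k) ⊗ₜ[k] (∑ l, a l • bC l) := by
      rw [TensorProduct.tmul_sum]
      refine Finset.sum_congr rfl fun l _ => ?_
      rw [← ha, algebraMap_smul, TensorProduct.tmul_smul]
    rw [hx] at hne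
    set X := ψ ((1 : AlgebraicClosure k) ⊗ₜ[k] (∑ l, a l • bC l))
    by_contra hns
    obtain ⟨c, hc1, hc2⟩ : ∃ c, X.charpoly.eval c = 0 ∧ X.charpoly.derivative.eval c = 0 := by
      rw [Polynomial.Separable, ← EuclideanDomain.gcd_isUnit_iff] at hns
      obtain ⟨c, hc⟩ := IsAlgClosed.exists_root (EuclideanDomain.gcd X.charpoly X.charpoly.derivative)
        (fun h => by
          by_cases h0 : EuclideanDomain.gcd X.charpoly X.charpoly.derivative = 0
          · exact (Matrix.charpoly_monic X).ne_zero (EuclideanDomain.gcd_eq_zero_iff.1 h0).1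
          · exact hns (Polynomial.isUnit_iff_degree_eq_zero.2 h))
      exact ⟨c, Polynomial.eval_eq_zero_of_dvd_of_eval_eq_zero (EuclideanDomain.gcd_dvd_left _ _) hc,
        Polynomial.eval_eq_zero_of_dvd_of_eval_eq_zero (EuclideanDomain.gcd_dvd_right _ _) hc⟩
    refine hne ?_
    obtain ⟨q, hq⟩ := Polynomial.dvd_iff_isRoot.2 hc2
    rw [hq, map_mul, Matrix.det_mul]
    rw [Matrix.eval_charpoly] at hc1
    refine mul_eq_zero_of_left ?_ _
    rw [map_sub, Polynomial.aeval_X, Polynomial.aeval_C,
      show X - algebraMap (AlgebraicClosure k) _ c = -(Matrix.scalar (Fin r) c - X) by rw [neg_sub]; rfl,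
      Matrix.det_neg, hc1, mul_zero]

/-- Central simple algebras have regular elements. -/
theorem exists_regular (hr : Module.finrank k C = r ^ 2) :
    ∃ x : C, Algebra.IsSeparable k (Algebra.adjoin k ({x} : Set C)) ∧
      Module.finrank k (Algebra.adjoin k ({x} : Set C)) = r := by
  classical
  obtain ⟨ψ, x, hx⟩ := exists_separable_charpoly hr
  obtain ⟨φ, c, hc, hφ⟩ := exists_diag_of_separable ψ x hx
  have hpoly : ∀ y ∈ Algebra.adjoin k ({x} : Set C), ∃ d, φ (1 ⊗ₜ[k] y) = Matrix.diagonal d := by
    intro y hy
    induction hy using Algebra.adjoin_induction with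
    | mem y hy =>
      rw [Set.mem_singleton_iff] at hy
      exact ⟨c, hy ▸ hφ⟩
    | algebraMap a =>
      refine ⟨fun _ => algebraMap k (AlgebraicClosure k) a, ?_⟩
      rw [← Algebra.TensorProduct.includeRight_apply, AlgHom.commutes,
        IsScalarTower.algebraMap_apply k (AlgebraicClosure k) (AlgebraicClosure k ⊗[k] C), AlgEquiv.commutes]
      rfl
    | add p q _ _ hp hq =>
      obtain ⟨d, hd⟩ := hp
      obtain ⟨d', hd'⟩ := hq
      exact ⟨fun i => d i + d' i, by rw [TensorProduct.tmul_add, map_add, hd, hd', Matrix.diagonal_add]⟩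
    | mul p q _ _ hp hq =>
      obtain ⟨d, hd⟩ := hp
      obtain ⟨d', hd'⟩ := hq
      exact ⟨fun i => d i * d' i, by
        rw [← mul_one (1 : AlgebraicClosure k), ← Algebra.TensorProduct.tmul_mul_tmul, map_mul, hd, hd',
          Matrix.diagonal_mul_diagonal]⟩
  set S := Algebra.adjoin k ({x} : Set C)
  refine ⟨x, ⟨fun y => ?_⟩, le_antisymm ?_ ?_⟩
  · obtain ⟨d, hd⟩ := hpoly y y.2
    rw [IsSeparable, ← minpoly.algHom_eq S.val Subtype.val_injective y]
    exact isSeparable_of_diagonal φ (y : C) d hd
  · let Θ : AlgebraicClosure k ⊗[k] S →ₗ[AlgebraicClosure k] (Fin r → AlgebraicClosure k) :=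
      Matrix.diagLinearMap (Fin r) (AlgebraicClosure k) (AlgebraicClosure k) ∘ₗ φ.toLinearMap ∘ₗ
        LinearMap.baseChange (AlgebraicClosure k) S.val.toLinearMap
    have hΘ : ∀ z, φ (LinearMap.baseChange (AlgebraicClosure k) S.val.toLinearMap z) = Matrix.diagonal (Θ z) := fun z => by
      induction z using TensorProduct.induction_on with
      | zero => simp
      | tmul a y =>
        obtain ⟨d, hd⟩ := hpoly y y.2
        have h : φ (LinearMap.baseChange (AlgebraicClosure k) S.val.toLinearMap (a ⊗ₜ[k] y)) =
            Matrix.diagonal (a • d) := by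
          rw [LinearMap.baseChange_tmul, Matrix.diagonal_smul, ← hd, ← map_smul, TensorProduct.smul_tmul', smul_eq_mul,
            mul_one]
          rfl
        simp only [Θ, LinearMap.comp_apply, AlgEquiv.toLinearMap_apply]
        rw [h]
        exact congrArg Matrix.diagonal (Matrix.diag_diagonal (a • d)).symm
      | add p q hp hq => rw [map_add, map_add, hp, hq, map_add Θ, Matrix.diagonal_add]; rfl
    have hinj : Function.Injective Θ := fun a b hab => by
      have := φ.injective ((hΘ a).trans ((congrArg Matrix.diagonal hab).trans (hΘ b).symm))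
      exact Module.Flat.lTensor_preserves_injective_linearMap S.val.toLinearMap Subtype.val_injective this
    have := LinearMap.finrank_le_finrank_of_injective hinj
    rwa [Module.finrank_baseChange, Module.finrank_fin_fun] at this
  · have hli : LinearIndependent k (fun i : Fin r => (⟨x, Algebra.self_mem_adjoin_singleton k x⟩ : S) ^ (i : ℕ)) := by
      rw [Fintype.linearIndependent_iff]
      intro g hg i
      have h1 := congrArg (fun y : S => φ (1 ⊗ₜ[k] (y : C))) hg
      simp only [AddSubmonoidClass.coe_finset_sum, SetLike.val_smul, SubmonoidClass.coe_pow, ZeroMemClass.coe_zero,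
        TensorProduct.tmul_sum, TensorProduct.tmul_zero, map_zero, map_sum] at h1
      have h2 : ∀ j : Fin r, ∑ l : Fin r, algebraMap k (AlgebraicClosure k) (g l) * c j ^ (l : ℕ) = 0 := fun j => by
        have h3 := congrFun (congrFun h1 j) j
        rw [Matrix.sum_apply] at h3
        rw [← Matrix.zero_apply (α := AlgebraicClosure k) j j, ← h3]
        refine Finset.sum_congr rfl fun l _ => ?_
        rw [TensorProduct.tmul_smul, ← algebraMap_smul (AlgebraicClosure k), map_smul,
          ← one_pow (M := AlgebraicClosure k) (l : ℕ), ← Algebra.TensorProduct.tmul_pow, map_pow, hφ, Matrix.diagonal_pow]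
        simp
      exact (algebraMap k (AlgebraicClosure k)).injective ((congrFun (Matrix.eq_zero_of_forall_index_sum_mul_pow_eq_zero
        hc h2) i).trans (map_zero _).symm)
    have := hli.fintype_card_le_finrank
    rwa [Fintype.card_fin] at this

end regular

end Groth.Agent.AzSplitLib
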