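import Mathlib
import Groth.Agent.S8137
import Groth.Agent.S13797
import Groth.Agent.TorsorLift.Descent
import Groth.Agent.AzumayaAlg.Basic
import Groth.Agent.AzumayaAlg.Descent

/-!
# Tensor powers of a split algebra and the antisymmetriser
-/

set_option autoImplicit false
set_option backward.isDefEq.respectTransparency false

universe u

open scoped TensorProduct

namespace Groth.Agent.AzSplitLib

variable {n : ℕ} {S : Type u} [CommRing S]

/-- The Kronecker product of a family of matrices. -/
def kron (M : Fin n → Matrix (Fin n) (Fin n) S) : Matrix (Fin n → Fin n) (Fin n → Fin n) S :=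
  Matrix.of fun f g => ∏ j, M j (f j) (g j)

theorem kron_apply (M : Fin n → Matrix (Fin n) (Fin n) S) (f g : Fin n → Fin n) :
    kron M f g = ∏ j, M j (f j) (g j) := rfl

theorem kron_one : kron (1 : Fin n → Matrix (Fin n) (Fin n) S) = 1 := by
  ext f g
  rcases eq_or_ne f g with rfl | h
  · simp [kron_apply]
  · obtain ⟨j, hj⟩ := Function.ne_iff.1 h
    rw [kron_apply, Matrix.one_apply_ne h]
    exact Finset.prod_eq_zero (Finset.mem_univ j) (by simp [Matrix.one_apply_ne hj])

theorem kron_mul (M N : Fin n → Matrix (Fin n) (Fin n) S) : kron (M * N) = kron M * kron N := by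
  ext f g
  simp only [kron_apply, Pi.mul_apply, Matrix.mul_apply, Fintype.prod_sum, ← Finset.prod_mul_distrib]

theorem kron_map {S' : Type u} [CommRing S'] (φ : S →+* S') (M : Fin n → Matrix (Fin n) (Fin n) S) :
    (kron M).map φ = kron fun j => (M j).map φ := by
  ext f g
  simp [kron_apply, map_prod]

variable (n S) in
/-- The matrix of the antisymmetriser. -/
def asymMat : Matrix (Fin n → Fin n) (Fin n → Fin n) S :=
  Matrix.of fun f g => ((1 : Matrix (Fin n) (Fin n) S).submatrix f g).det

theorem asymMat_apply (f g : Fin n → Fin n) :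
    asymMat n S f g = ((1 : Matrix (Fin n) (Fin n) S).submatrix f g).det := rfl

theorem asymMat_map {S' : Type u} [CommRing S'] (φ : S →+* S') : (asymMat n S).map φ = asymMat n S' := by
  ext f g
  rw [Matrix.map_apply, asymMat_apply, asymMat_apply, RingHom.map_det, RingHom.mapMatrix_apply,
    ← Matrix.submatrix_map, Matrix.map_one φ φ.map_zero φ.map_one]

theorem asymMat_symm (f g : Fin n → Fin n) : asymMat n S f g = asymMat n S g f := by
  rw [asymMat_apply, asymMat_apply, ← Matrix.det_transpose, Matrix.transpose_submatrix, Matrix.transpose_one]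

theorem asymMat_id : asymMat n S id id = 1 := by simp [asymMat_apply]

theorem asymMat_eq (f g : Fin n → Fin n) : asymMat n S f g = asymMat n S f id * asymMat n S id g := by
  rw [asymMat_apply, asymMat_apply, asymMat_apply, ← Matrix.det_mul, ← Matrix.submatrix_mul _ _ f id g
    Function.bijective_id, one_mul]

theorem det_submatrix_eq (M : Matrix (Fin n) (Fin n) S) (f g : Fin n → Fin n) :
    (M.submatrix f g).det = ∑ h : Fin n → Fin n, (∏ j, M (f j) (h j)) * asymMat n S h g := by
  classical
  let D : MultilinearMap S (fun _ : Fin n => Fin n → S) S :=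
    (Matrix.detRowAlternating : (Fin n → S) [⋀^Fin n]→ₗ[S] S).toMultilinearMap
  have hrow : M.submatrix f g = fun j => ∑ l, M (f j) l • fun k => (1 : Matrix (Fin n) (Fin n) S) l (g k) := by
    funext j k
    simp [Finset.sum_apply, Matrix.one_apply]
  have hD : ∀ (X : Matrix (Fin n) (Fin n) S), X.det = D X := fun X => rfl
  rw [hD, hrow, D.map_sum]
  refine Finset.sum_congr rfl fun h _ => ?_
  rw [D.map_smul_univ, smul_eq_mul]
  rfl

theorem kron_mul_asymMat (M : Matrix (Fin n) (Fin n) S) :
    kron (fun _ => M) * asymMat n S = asymMat n S * kron fun _ => M := by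
  ext f g
  rw [Matrix.mul_apply, Matrix.mul_apply]
  simp only [kron_apply]
  rw [← det_submatrix_eq M f g, ← Matrix.det_transpose, Matrix.transpose_submatrix, det_submatrix_eq]
  refine Finset.sum_congr rfl fun h _ => ?_
  rw [asymMat_symm, mul_comm]
  simp

section Theta

variable {R : Type u} [CommRing R] {A : Type u} [Ring A] [Algebra R A] [Algebra R S]

/-- The tensor power of a splitting, as a matrix representation. -/
noncomputable def powMat (e : S ⊗[R] A ≃ₐ[S] Matrix (Fin n) (Fin n) S) :
    (⨂[R] _ : Fin n, A) →ₐ[R] Matrix (Fin n → Fin n) (Fin n → Fin n) S :=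
  PiTensorProduct.liftAlgHom
    { toFun := fun a => kron fun j => e (1 ⊗ₜ a j)
      map_update_add' := fun {inst} a i x y => by
        cases Subsingleton.elim inst (instDecidableEqFin n)
        ext f g
        simp only [kron_apply, Matrix.add_apply]
        rw [← Finset.mul_prod_erase _ _ (Finset.mem_univ i), ← Finset.mul_prod_erase _ _ (Finset.mem_univ i),
          ← Finset.mul_prod_erase _ _ (Finset.mem_univ i)]
        have hne : ∀ z, ∀ j ∈ Finset.univ.erase i, e (1 ⊗ₜ[R] Function.update a i z j) (f j) (g j) =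
            e (1 ⊗ₜ[R] a j) (f j) (g j) := fun z j hj => by
          rw [Function.update_of_ne (Finset.ne_of_mem_erase hj)]
        rw [Finset.prod_congr rfl (hne _), Finset.prod_congr rfl (hne x), Finset.prod_congr rfl (hne y)]
        simp [TensorProduct.tmul_add, add_mul]
      map_update_smul' := fun {inst} a i c x => by
        cases Subsingleton.elim inst (instDecidableEqFin n)
        ext f g
        simp only [kron_apply, Matrix.smul_apply]
        rw [← Finset.mul_prod_erase _ _ (Finset.mem_univ i), ← Finset.mul_prod_erase _ _ (Finset.mem_univ i)]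
        have hne : ∀ z, ∀ j ∈ Finset.univ.erase i, e (1 ⊗ₜ[R] Function.update a i z j) (f j) (g j) =
            e (1 ⊗ₜ[R] a j) (f j) (g j) := fun z j hj => by
          rw [Function.update_of_ne (Finset.ne_of_mem_erase hj)]
        rw [Finset.prod_congr rfl (hne _), Finset.prod_congr rfl (hne x), Function.update_self, Function.update_self,
          TensorProduct.tmul_smul, ← algebraMap_smul S c, map_smul, Matrix.smul_apply, smul_eq_mul, mul_assoc,
          ← Algebra.smul_def] }
    (show kron (fun j => e ((1 : S) ⊗ₜ[R] (1 : A))) = 1 by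
      rw [← Algebra.TensorProduct.one_def, map_one]; exact kron_one)
    fun a b => by
      show kron (fun j => e ((1 : S) ⊗ₜ[R] (a j * b j))) = kron _ * kron _
      rw [← kron_mul]
      congr 1
      funext j
      rw [Pi.mul_apply, ← map_mul, Algebra.TensorProduct.tmul_mul_tmul, one_mul]

theorem powMat_tprod (e : S ⊗[R] A ≃ₐ[S] Matrix (Fin n) (Fin n) S) (a : Fin n → A) :
    powMat e (PiTensorProduct.tprod R a) = kron fun j => e (1 ⊗ₜ a j) := by
  simp [powMat]

/-- The tensor power of a splitting, over the splitting algebra. -/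
noncomputable def powSplit (e : S ⊗[R] A ≃ₐ[S] Matrix (Fin n) (Fin n) S) :
    S ⊗[R] (⨂[R] _ : Fin n, A) →ₐ[S] Matrix (Fin n → Fin n) (Fin n → Fin n) S :=
  Algebra.TensorProduct.lift (Algebra.ofId S _) (powMat e) fun s a => Algebra.commutes s _

theorem powSplit_tmul (e : S ⊗[R] A ≃ₐ[S] Matrix (Fin n) (Fin n) S) (s : S) (a : Fin n → A) :
    powSplit e (s ⊗ₜ PiTensorProduct.tprod R a) = s • kron fun j => e (1 ⊗ₜ a j) := by
  simp [powSplit, powMat_tprod, Algebra.smul_def, Algebra.ofId_apply]

theorem powSplit_bijective [Module.Finite R A] [Module.Projective R A]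
    (e : S ⊗[R] A ≃ₐ[S] Matrix (Fin n) (Fin n) S) : Function.Bijective (powSplit e) := by
  classical
  obtain ⟨m, p, g, -, -, hpg⟩ := Module.Finite.exists_comp_eq_id_of_projective R A
  let φ : Fin m → A →ₗ[R] R := fun i => LinearMap.proj i ∘ₗ g
  let b : Fin m → A := fun i => p (Pi.single i 1)
  have hb : ∀ a, ∑ i, φ i a • b i = a := fun a => by
    have h := LinearMap.congr_fun hpg a
    rw [LinearMap.comp_apply, LinearMap.id_apply] at h
    conv_rhs => rw [← h, pi_eq_sum_univ' (g a), map_sum]
    exact Finset.sum_congr rfl fun i _ => (map_smul p _ _).symm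
  let φS : Fin m → S ⊗[R] A →ₗ[S] S := fun i => LinearMap.liftBaseChange S (Algebra.linearMap R S ∘ₗ φ i)
  have hφS : ∀ i a, φS i ((1 : S) ⊗ₜ[R] a) = algebraMap R S (φ i a) := fun i a => by simp [φS]
  have hz : ∀ z, ∑ i, φS i z • ((1 : S) ⊗ₜ[R] b i) = z := fun z => by
    induction z using TensorProduct.induction_on with
    | zero => simp
    | add x y hx hy => simp only [map_add, add_smul, Finset.sum_add_distrib, hx, hy]
    | tmul s a =>
      rw [show s ⊗ₜ[R] a = s • ((1 : S) ⊗ₜ[R] a) by rw [TensorProduct.smul_tmul', smul_eq_mul, mul_one]]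
      simp only [map_smul, hφS, smul_eq_mul, mul_smul, algebraMap_smul, ← TensorProduct.tmul_smul, ← Finset.smul_sum,
        ← TensorProduct.tmul_sum, hb]
  let U : (Fin n → Fin n) → (Fin n → Fin n) → S ⊗[R] (⨂[R] _ : Fin n, A) := fun f g =>
    ∑ h : Fin n → Fin m, (∏ j, φS (h j) (e.symm (Matrix.single (f j) (g j) 1))) • ((1 : S) ⊗ₜ PiTensorProduct.tprod R (b ∘ h))
  let G : Matrix (Fin n → Fin n) (Fin n → Fin n) S →ₗ[S] S ⊗[R] (⨂[R] _ : Fin n, A) :=
    { toFun := fun X => ∑ f, ∑ g, X f g • U f g
      map_add' := fun X Y => by simp [add_smul, Finset.sum_add_distrib]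
      map_smul' := fun c X => by simp [Finset.smul_sum, smul_smul] }
  have hU : ∀ f g, powSplit e (U f g) = Matrix.single f g 1 := fun f g => by
    simp only [U, map_sum, map_smul, powSplit_tmul, one_smul, Function.comp_apply]
    ext f' g'
    simp only [Matrix.sum_apply, Matrix.smul_apply, smul_eq_mul, kron_apply, ← Finset.prod_mul_distrib]
    rw [← Fintype.prod_sum fun j i => φS i (e.symm (Matrix.single (f j) (g j) 1)) * e (1 ⊗ₜ[R] b i) (f' j) (g' j)]
    have hj : ∀ j, ∑ i, φS i (e.symm (Matrix.single (f j) (g j) 1)) * e (1 ⊗ₜ[R] b i) (f' j) (g' j) =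
        if f j = f' j ∧ g j = g' j then 1 else 0 := fun j => by
      have h1 := congrFun (congrFun (congrArg e (hz (e.symm (Matrix.single (f j) (g j) 1)))) (f' j)) (g' j)
      simp only [map_sum, map_smul, Matrix.sum_apply, Matrix.smul_apply, smul_eq_mul, AlgEquiv.apply_symm_apply] at h1
      rw [h1, Matrix.single_apply]
    simp only [hj, Fintype.prod_ite_zero, Finset.prod_const_one, Matrix.single_apply, funext_iff, forall_and]
  refine ⟨fun x y hxy => ?_, fun X => ⟨G X, ?_⟩⟩
  · have hGF : ∀ z, G (powSplit e z) = z := by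
      suffices G ∘ₗ (powSplit e).toLinearMap = LinearMap.id from fun z => LinearMap.congr_fun this z
      refine TensorProduct.AlgebraTensorModule.ext fun s t => ?_
      rw [LinearMap.id_apply, show s ⊗ₜ[R] t = s • ((1 : S) ⊗ₜ[R] t) by rw [TensorProduct.smul_tmul', smul_eq_mul, mul_one],
        map_smul]
      congr 1
      induction t using PiTensorProduct.induction_on with
      | add x y hx hy => rw [TensorProduct.tmul_add, map_add, hx, hy]
      | smul_tprod r a =>
        rw [TensorProduct.tmul_smul, ← algebraMap_smul S r, map_smul]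
        congr 1
        simp only [LinearMap.comp_apply, AlgHom.toLinearMap_apply, powSplit_tmul, one_smul]
        show ∑ f, ∑ g, (kron fun j => e (1 ⊗ₜ[R] a j)) f g • U f g = _
        simp only [U, Finset.smul_sum, smul_smul, kron_apply, ← Finset.prod_mul_distrib]
        rw [Finset.sum_congr rfl fun f _ => Finset.sum_comm, Finset.sum_comm]
        have hj : ∀ (j : Fin n) (i : Fin m), ∑ k, ∑ l, e (1 ⊗ₜ[R] a j) k l * φS i (e.symm (Matrix.single k l 1)) =
            algebraMap R S (φ i (a j)) := fun j i => by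
          rw [← hφS, ← e.symm_apply_apply ((1 : S) ⊗ₜ[R] a j), e.apply_symm_apply]
          conv_rhs => rw [Matrix.matrix_eq_sum_single (e (1 ⊗ₜ[R] a j))]
          simp only [map_sum]
          refine Finset.sum_congr rfl fun k _ => Finset.sum_congr rfl fun l _ => ?_
          rw [← smul_eq_mul, ← map_smul, ← map_smul, Matrix.smul_single, smul_eq_mul, mul_one]
        calc _ = ∑ h : Fin n → Fin m, (∏ j, algebraMap R S (φ (h j) (a j))) •
              ((1 : S) ⊗ₜ[R] PiTensorProduct.tprod R (b ∘ h)) := by
              refine Finset.sum_congr rfl fun h _ => ?_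
              simp only [← Finset.sum_smul, ← hj, Fintype.prod_sum]
          _ = (1 : S) ⊗ₜ[R] PiTensorProduct.tprod R fun j => ∑ i, φ i (a j) • b i := by
              rw [MultilinearMap.map_sum, TensorProduct.tmul_sum]
              refine Finset.sum_congr rfl fun h _ => ?_
              rw [MultilinearMap.map_smul_univ, TensorProduct.tmul_smul, ← map_prod, algebraMap_smul]
              rfl
          _ = _ := by simp only [hb]
    rw [← hGF x, hxy, hGF]
  · show powSplit e (∑ f, ∑ g, X f g • U f g) = X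
    simp only [map_sum, map_smul, hU, Matrix.smul_single, smul_eq_mul, mul_one]
    exact (Matrix.matrix_eq_sum_single X).symm

end Theta

/-- A tensor power of a finite projective module is finite projective. -/
theorem finite_projective_piTensor (R : Type u) [CommRing R] (A : Type u) [AddCommGroup A] [Module R A]
    [Module.Finite R A] [Module.Projective R A] :
    Module.Finite R (⨂[R] _ : Fin n, A) ∧ Module.Projective R (⨂[R] _ : Fin n, A) := by
  classical
  obtain ⟨m, p, g, -, -, hpg⟩ := Module.Finite.exists_comp_eq_id_of_projective R A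
  let φ : Fin m → A →ₗ[R] R := fun i => LinearMap.proj i ∘ₗ g
  let b : Fin m → A := fun i => p (Pi.single i 1)
  have hb : ∀ a, ∑ i, φ i a • b i = a := fun a => by
    have h := LinearMap.congr_fun hpg a
    rw [LinearMap.comp_apply, LinearMap.id_apply] at h
    conv_rhs => rw [← h, pi_eq_sum_univ' (g a), map_sum]
    exact Finset.sum_congr rfl fun i _ => (map_smul p _ _).symm
  let σ : (⨂[R] _ : Fin n, A) →ₗ[R] ((Fin n → Fin m) → R) :=
    LinearMap.pi fun h => PiTensorProduct.lift ((MultilinearMap.mkPiAlgebra R (Fin n) R).compLinearMap fun j => φ (h j))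
  let π : ((Fin n → Fin m) → R) →ₗ[R] (⨂[R] _ : Fin n, A) :=
    Fintype.linearCombination R fun h => PiTensorProduct.tprod R (b ∘ h)
  have h : π ∘ₗ σ = LinearMap.id := by
    refine PiTensorProduct.ext (MultilinearMap.ext fun a => ?_)
    show π (σ (PiTensorProduct.tprod R a)) = PiTensorProduct.tprod R a
    conv_rhs => rw [show a = fun j => ∑ i, φ i (a j) • b i from (funext fun j => hb (a j)).symm]
    rw [MultilinearMap.map_sum]
    simp [π, σ, Fintype.linearCombination_apply, MultilinearMap.map_smul_univ, Function.comp_def]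
  exact ⟨Module.Finite.of_surjective π fun x => ⟨σ x, LinearMap.congr_fun h x⟩, Module.Projective.of_split σ π h⟩

/-- Intertwiners of determinant prime to a given maximal ideal span the unit ideal. -/
theorem span_det_inter (α : Matrix (Fin n) (Fin n) S ≃ₐ[S] Matrix (Fin n) (Fin n) S) :
    Ideal.span (Set.range fun M : S13797.inter S n α => M.1.det ^ n) = ⊤ := by
  rcases Nat.eq_zero_or_pos n with rfl | hn
  · refine (Ideal.eq_top_iff_one _).2 (Ideal.subset_span ⟨0, ?_⟩)
    simp
  · by_contra h
    obtain ⟨p, hp, hle⟩ := Ideal.exists_le_maximal _ h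
    obtain ⟨M, hM, hd⟩ := S13797.exists_det_notMem α hn p
    exact hd (hp.isPrime.mem_of_pow_mem n (hle (Ideal.subset_span ⟨⟨M, hM⟩, rfl⟩)))

variable {R : Type u} [CommRing R] {A : Type u} [Ring A] [Algebra R A] [Module.Finite R A] [Module.Projective R A]
  {R' : Type u} [CommRing R'] [Algebra R R'] [Module.FaithfullyFlat R R']

/-- The antisymmetriser descends to the tensor power. -/
theorem exists_asym (φ : R' ⊗[R] A ≃ₐ[R'] Matrix (Fin n) (Fin n) R') :
    ∃ a : ⨂[R] _ : Fin n, A, powSplit φ ((1 : R') ⊗ₜ a) = asymMat n R' := by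
  classical
  let T := ⨂[R] _ : Fin n, A
  obtain ⟨a', ha'⟩ := (powSplit_bijective φ).2 (asymMat n R')
  let i₁ : R' →ₐ[R] R' ⊗[R] R' := Algebra.TensorProduct.includeLeft
  let i₂ : R' →ₐ[R] R' ⊗[R] R' := Algebra.TensorProduct.includeRight
  obtain ⟨e₁, he₁⟩ := S8137.exists_splitting_baseChange φ i₁
  obtain ⟨e₂, he₂⟩ := S8137.exists_splitting_baseChange φ i₂
  let μ : (R' →ₐ[R] R' ⊗[R] R') → (R' ⊗[R] T →ₐ[R] (R' ⊗[R] R') ⊗[R] T) := fun ι =>
    Algebra.TensorProduct.map ι (AlgHom.id R T)
  have hμ : ∀ (ι : R' →ₐ[R] R' ⊗[R] R') (e : (R' ⊗[R] R') ⊗[R] A ≃ₐ[R' ⊗[R] R'] Matrix (Fin n) (Fin n) (R' ⊗[R] R'))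
      (_ : ∀ a, e (1 ⊗ₜ a) = (φ (1 ⊗ₜ a)).map ι) (z : R' ⊗[R] T),
      powSplit e (μ ι z) = (powSplit φ z).map ι := fun ι e he z => by
    induction z using TensorProduct.induction_on with
    | zero => simp
    | add x y hx hy => rw [map_add, map_add, hx, hy, map_add]; exact (Matrix.map_add ι (map_add ι) _ _).symm
    | tmul r t =>
      induction t using PiTensorProduct.induction_on with
      | add x y hx hy =>
        rw [TensorProduct.tmul_add, map_add, map_add, hx, hy, map_add]; exact (Matrix.map_add ι (map_add ι) _ _).symm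
      | smul_tprod c a =>
        rw [TensorProduct.tmul_smul, TensorProduct.smul_tmul']
        simp only [μ, Algebra.TensorProduct.map_tmul, AlgHom.id_apply]
        erw [powSplit_tmul, powSplit_tmul]
        simp only [he]
        ext f g
        simp [kron_apply, map_prod]
  set z₁ := μ i₁ a'
  set z₂ := μ i₂ a'
  have hz₁ : powSplit e₁ z₁ = asymMat n (R' ⊗[R] R') := by rw [hμ i₁ e₁ he₁, ha']; exact asymMat_map i₁.toRingHom
  have hz₂ : powSplit e₂ z₂ = asymMat n (R' ⊗[R] R') := by rw [hμ i₂ e₂ he₂, ha']; exact asymMat_map i₂.toRingHom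
  let α := e₁.symm.trans e₂
  have hkey : ∀ (M : S13797.inter (R' ⊗[R] R') n α) (z : (R' ⊗[R] R') ⊗[R] T),
      kron (fun _ => M.1) * powSplit e₁ z = powSplit e₂ z * kron fun _ => M.1 := fun M z => by
    induction z using TensorProduct.induction_on with
    | zero => simp
    | add x y hx hy => rw [map_add, map_add, mul_add, add_mul, hx, hy]
    | tmul r t =>
      induction t using PiTensorProduct.induction_on with
      | add x y hx hy => rw [TensorProduct.tmul_add, map_add, map_add, mul_add, add_mul, hx, hy]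
      | smul_tprod c a =>
        rw [TensorProduct.tmul_smul, TensorProduct.smul_tmul', powSplit_tmul, powSplit_tmul, Matrix.mul_smul,
          Matrix.smul_mul, ← kron_mul, ← kron_mul]
        congr 2
        funext j
        rw [Pi.mul_apply, Pi.mul_apply, S13797.mem_inter.1 M.2]
        simp [α]
  have hz : z₁ = z₂ := by
    refine sub_eq_zero.1 ((powSplit_bijective e₂).1 ?_)
    rw [map_zero]
    set D := powSplit e₂ (z₁ - z₂)
    have hD : ∀ M : S13797.inter (R' ⊗[R] R') n α, M.1.det ^ n • D = 0 := fun M => by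
      have h0 : D * kron (fun _ => M.1) = 0 := by
        show powSplit e₂ (z₁ - z₂) * _ = 0
        rw [map_sub, sub_mul, ← hkey M z₁, hz₁, hz₂, kron_mul_asymMat, sub_self]
      have h1 := congrArg (· * kron (fun _ => M.1.adjugate)) h0
      simp only [zero_mul, Matrix.mul_assoc, ← kron_mul] at h1
      have h2 : kron ((fun _ : Fin n => M.1) * fun _ => M.1.adjugate) = M.1.det ^ n • (1 : Matrix (Fin n → Fin n) _ _) := by
        rw [← kron_one]
        ext f g
        simp only [Matrix.smul_apply, kron_apply, Pi.mul_apply, Matrix.mul_adjugate, Pi.one_apply, smul_eq_mul,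
          Finset.prod_mul_distrib, Finset.prod_const, Finset.card_univ, Fintype.card_fin]
      rwa [h2, Matrix.mul_smul, Matrix.mul_one] at h1
    have hle : Ideal.span (Set.range fun M : S13797.inter (R' ⊗[R] R') n α => M.1.det ^ n) ≤
        LinearMap.ker (LinearMap.toSpanSingleton (R' ⊗[R] R') _ D) := Ideal.span_le.2 (by
      rintro _ ⟨M, rfl⟩
      exact hD M)
    simpa using hle ((Ideal.eq_top_iff_one _).1 (span_det_inter α))
  obtain ⟨a, ha⟩ : a' ∈ LinearMap.range (TensorProduct.mk R R' T 1) := by
    refine TorsorLift.mem_range_of_one_tmul (S := R') _ _ ⟨a', ?_⟩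
    refine (TensorProduct.assoc R R' R' T).symm.injective ?_
    have h1 : ∀ w : R' ⊗[R] T, (TensorProduct.assoc R R' R' T).symm (LinearMap.lTensor R' (TensorProduct.mk R R' T 1) w) =
        μ i₁ w := fun w => by
      induction w using TensorProduct.induction_on with
      | zero => simp
      | add x y hx hy => rw [map_add, map_add, hx, hy, map_add]
      | tmul r t => simp [μ, i₁]
    have h2 : ∀ w : R' ⊗[R] T, (TensorProduct.assoc R R' R' T).symm ((1 : R') ⊗ₜ w) = μ i₂ w := fun w => by
      induction w using TensorProduct.induction_on with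
      | zero => simp
      | add x y hx hy => rw [TensorProduct.tmul_add, map_add, hx, hy, map_add]
      | tmul r t => simp [μ, i₂]
    rw [h1, h2]
    exact hz
  refine ⟨a, ?_⟩
  rw [TensorProduct.mk_apply] at ha
  rw [ha, ha']

/-- The idempotent cutting out a line in the tensor power. -/
theorem exists_line_idem [IsAzumaya R A] (φ : R' ⊗[R] A ≃ₐ[R'] Matrix (Fin n) (Fin n) R') :
    IsAzumaya R (⨂[R] _ : Fin n, A) ∧ ∃ p : ⨂[R] _ : Fin n, A, p * p = p ∧
      (∀ t, ∃ r : R, r • p = p * t * p) ∧ ∀ r : R, r • p = 0 → r = 0 := by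
  classical
  obtain ⟨hTf, hTp⟩ := finite_projective_piTensor (n := n) R A
  haveI := hTf
  haveI := hTp
  let Θ := AlgEquiv.ofBijective (powSplit φ) (powSplit_bijective φ)
  refine ⟨?_, ?_⟩
  · haveI : Nonempty (Fin n → Fin n) := ⟨id⟩
    haveI : IsAzumaya R' (Matrix (Fin n → Fin n) (Fin n → Fin n) R') := IsAzumaya.matrix R' _
    haveI : IsAzumaya R' (R' ⊗[R] (⨂[R] _ : Fin n, A)) := IsAzumaya.of_AlgEquiv R' _ _ Θ.symm
    exact AzumayaAlg.isAzumaya_of_baseChange_faithfullyFlat (R := R) R' _
  obtain ⟨a, ha⟩ := exists_asym φ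
  have hΘa : Θ (1 ⊗ₜ a) = asymMat n R' := ha
  set aM := asymMat n R' with haM
  let E₀ : Matrix (Fin n → Fin n) (Fin n → Fin n) R' := Matrix.single id id 1
  have hrank1 : ∀ Z : Matrix (Fin n → Fin n) (Fin n → Fin n) R', ∃ c : R', aM * Z * aM = c • aM := fun Z => by
    refine ⟨∑ g, ∑ h, aM id h * Z h g * aM g id, ?_⟩
    ext f g
    simp only [Matrix.mul_apply, Matrix.smul_apply, smul_eq_mul, Finset.sum_mul]
    refine Finset.sum_congr rfl fun k _ => Finset.sum_congr rfl fun h _ => ?_
    rw [haM, asymMat_eq f h, asymMat_eq k g, asymMat_eq f g]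
    ring
  have hE : aM * E₀ * aM = aM := by
    ext f g
    simp [Matrix.mul_apply, E₀, Matrix.single_apply, ite_and, haM, ← asymMat_eq f g]
  obtain ⟨x, hx⟩ : ∃ x, a * x * a = a := by
    obtain ⟨x, hx⟩ : a ∈ LinearMap.range (LinearMap.mulRight R a ∘ₗ LinearMap.mulLeft R a) := by
      refine TorsorLift.mem_range_of_one_tmul (S := R') _ _ ⟨Θ.symm E₀, ?_⟩
      have h1 : ∀ w, LinearMap.lTensor R' (LinearMap.mulRight R a ∘ₗ LinearMap.mulLeft R a) w =
          (1 ⊗ₜ a) * w * (1 ⊗ₜ a) := fun w => by
        induction w using TensorProduct.induction_on with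
        | zero => simp
        | add u v hu hv => rw [map_add, hu, hv, mul_add, add_mul]
        | tmul r t => simp
      refine Θ.injective ?_
      rw [h1, map_mul, map_mul, AlgEquiv.apply_symm_apply, hΘa, hE]
    exact ⟨x, hx⟩
  refine ⟨x * a, by rw [mul_assoc, ← mul_assoc a x a, hx], fun t => ?_, fun r hr => ?_⟩
  · obtain ⟨r, hr⟩ : x * a * t * (x * a) ∈ LinearMap.range (LinearMap.toSpanSingleton R _ (x * a)) := by
      obtain ⟨c, hc⟩ := hrank1 (Θ (1 ⊗ₜ t) * Θ (1 ⊗ₜ x))
      refine TorsorLift.mem_range_of_one_tmul (S := R') _ _ ⟨c ⊗ₜ 1, ?_⟩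
      refine Θ.injective ?_
      rw [LinearMap.lTensor_tmul, LinearMap.toSpanSingleton_apply, one_smul,
        show c ⊗ₜ[R] (x * a) = c • ((1 ⊗ₜ x) * ((1 : R') ⊗ₜ a)) by
          rw [Algebra.TensorProduct.tmul_mul_tmul, one_mul, TensorProduct.smul_tmul', smul_eq_mul, mul_one],
        show (1 : R') ⊗ₜ[R] (x * a * t * (x * a)) = (1 ⊗ₜ x) * (1 ⊗ₜ a) * (1 ⊗ₜ t) * ((1 ⊗ₜ x) * (1 ⊗ₜ a)) by
          simp only [Algebra.TensorProduct.tmul_mul_tmul, one_mul],
        map_smul, map_mul, map_mul, map_mul, map_mul, hΘa, ← Matrix.mul_smul, ← hc]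
      simp only [Matrix.mul_assoc]
    exact ⟨r, hr⟩
  · have h1 : r • a = 0 := by
      rw [← hx, mul_assoc, ← mul_smul_comm, hr, mul_zero]
    have h2 := congrArg (fun t => Θ ((1 : R') ⊗ₜ[R] t) id id) h1
    simp only [TensorProduct.tmul_smul, TensorProduct.tmul_zero, map_zero, Matrix.zero_apply] at h2
    rw [← algebraMap_smul R' r, map_smul, hΘa, Matrix.smul_apply, haM, asymMat_id, smul_eq_mul, mul_one] at h2
    exact FaithfulSMul.algebraMap_injective R R' (by rw [h2, map_zero])

end Groth.Agent.AzSplitLib
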